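import Cfsg.Agent.Lib.FiMult.Lift

/-!
# Commuting lifts

All the commutators of lifts of unjoined generators are equal to one central element of order at most two, and
it is trivial when a word of odd length in letters unjoined to one generator maps to the identity.
-/

set_option autoImplicit false

namespace Cfsg.Agent.Lib.FiMult

variable {E G : Type*} [Group E] [Group G] {σ : E →* G}

/-- Pairs spread along joined pairs. -/
def spread (ed : List (ℕ × ℕ)) : List (ℕ × ℕ × ℕ) → List (ℕ × ℕ) → Option (List (ℕ × ℕ))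
  | [], l => some l
  | (x, y, z) :: d, l =>
    if l.contains (x, y) && joined ed y z && !joined ed x z && decide (x ≠ z) then
      spread ed d ((x, z) :: (z, x) :: l)
    else none

/-- A word of letters unjoined to a generator is moved by the generator through a power. -/
theorem conj_word {s : ℕ → E} {x : ℕ} {e : E} (he : ∀ u, u * e = e * u) :
    ∀ W : List ℕ, (∀ y ∈ W, s x * s y * (s x)⁻¹ = e * s y) →
      s x * (W.map s).prod * (s x)⁻¹ = e ^ W.length * (W.map s).prod
  | [], _ => by simp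
  | y :: W, h => by
    rw [List.map_cons, List.prod_cons, List.length_cons, pow_succ]
    have ih := conj_word he W (fun z hz => h z (List.mem_cons_of_mem _ hz))
    calc s x * (s y * (W.map s).prod) * (s x)⁻¹
        = (s x * s y * (s x)⁻¹) * (s x * (W.map s).prod * (s x)⁻¹) := by group
      _ = e * (s y * e ^ W.length) * (W.map s).prod := by rw [h y List.mem_cons_self, ih]; group
      _ = e ^ W.length * e * (s y * (W.map s).prod) := by
        rw [((show Commute (s y) e from he _).pow_right W.length).eq, ← pow_succ, pow_succ']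
        group

/-- The lifts have exact relations. -/
theorem rels_of_odd_word (hc : σ.ker ≤ Subgroup.center E) {K : ℕ} {ed : List (ℕ × ℕ)} {s : ℕ → E} {c : E}
    (hck : c ∈ σ.ker) (f : ℕ → G) (hs : ∀ x, σ (s x) = f x) (hsq : ∀ x < K, s x * s x = c)
    (hbr : ∀ p ∈ ed, s p.1 * s p.2 * s p.1 = s p.2 * s p.1 * s p.2)
    (hcm : ∀ x < K, ∀ y < K, x ≠ y → joined ed x y = false → f x * f y = f y * f x)
    (x₀ y₀ : ℕ) (hx₀ : x₀ < K) (hy₀ : y₀ < K) (hne : x₀ ≠ y₀) (hj : joined ed x₀ y₀ = false)
    (d : List (ℕ × ℕ × ℕ)) (l : List (ℕ × ℕ)) (hd : spread ed d [(x₀, y₀), (y₀, x₀)] = some l)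
    (hdK : ∀ t ∈ d, t.1 < K ∧ t.2.1 < K ∧ t.2.2 < K)
    (hcover : ∀ x < K, ∀ y < K, x ≠ y → joined ed x y = false → (x, y) ∈ l)
    (w : ℕ) (hw : w < K) (W : List ℕ) (hW : ∀ y ∈ W, y < K ∧ y ≠ w ∧ joined ed w y = false)
    (hodd : W.length % 2 = 1) (hW1 : (W.map f).prod = 1) :
    Rels K ed s c := by
  have hcen : ∀ z ∈ σ.ker, ∀ v : E, v * z = z * v := fun z hz => Subgroup.mem_center_iff.1 (hc hz)
  have hsym : ∀ a b, joined ed a b = joined ed b a := fun a b => by simp [joined, Bool.or_comm]
  have hek : ∀ x < K, ∀ y < K, x ≠ y → joined ed x y = false → s x * s y * (s x)⁻¹ * (s y)⁻¹ ∈ σ.ker := by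
    intro x hx y hy hxy hj
    rw [MonoidHom.mem_ker, map_mul, map_mul, map_mul, map_inv, map_inv, hs, hs, hcm x hx y hy hxy hj]
    group
  obtain ⟨e, he⟩ : ∃ e, e = s x₀ * s y₀ * (s x₀)⁻¹ * (s y₀)⁻¹ := ⟨_, rfl⟩
  have hek₀ : e ∈ σ.ker := he ▸ hek x₀ hx₀ y₀ hy₀ hne hj
  have hec := hcen e hek₀
  have hbase : s x₀ * s y₀ * (s x₀)⁻¹ = e * s y₀ := by rw [he]; group
  have he2 : e * e = 1 := by
    have h : s x₀ * (s x₀ * s y₀ * (s x₀)⁻¹) * (s x₀)⁻¹ = e * e * s y₀ := by
      calc s x₀ * (s x₀ * s y₀ * (s x₀)⁻¹) * (s x₀)⁻¹ = (s x₀ * e) * s y₀ * (s x₀)⁻¹ := by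
            rw [hbase, ← mul_assoc]
        _ = e * (s x₀ * s y₀ * (s x₀)⁻¹) := by rw [hec]; simp only [mul_assoc]
        _ = e * e * s y₀ := by rw [hbase, mul_assoc]
    have h' : s x₀ * (s x₀ * s y₀ * (s x₀)⁻¹) * (s x₀)⁻¹ = 1 * s y₀ := by
      rw [show s x₀ * (s x₀ * s y₀ * (s x₀)⁻¹) * (s x₀)⁻¹ = (s x₀ * s x₀) * s y₀ * (s x₀ * s x₀)⁻¹ by group,
        hsq x₀ hx₀, ← hcen c hck, mul_inv_cancel_right, one_mul]
    exact (mul_right_cancel (h'.symm.trans h)).symm
  have symm : ∀ x y, s x * s y * (s x)⁻¹ = e * s y → s y * s x * (s y)⁻¹ = e * s x := by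
    intro x y h
    have h1 : s x * s y = e * s y * s x := by rw [← h]; group
    have h2 : s y * s x = e * (s x * s y) := by rw [h1, ← mul_assoc, ← mul_assoc, he2, one_mul]
    rw [h2]; group
  -- the spreading
  have key : ∀ (d : List (ℕ × ℕ × ℕ)) (l₀ l : List (ℕ × ℕ)), (∀ t ∈ d, t.1 < K ∧ t.2.1 < K ∧ t.2.2 < K) →
      (∀ p ∈ l₀, s p.1 * s p.2 * (s p.1)⁻¹ = e * s p.2) → spread ed d l₀ = some l →
      ∀ p ∈ l, s p.1 * s p.2 * (s p.1)⁻¹ = e * s p.2 := by
    intro d
    induction d with
    | nil =>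
      intro l₀ l _ h0 hl
      simp only [spread, Option.some.injEq] at hl
      exact hl ▸ h0
    | cons t d ih =>
      obtain ⟨x, y, z⟩ := t
      intro l₀ l hK h0 hl
      simp only [spread] at hl
      split at hl
      · next hg =>
        simp only [Bool.and_eq_true, List.contains_iff_mem, Bool.not_eq_true', decide_eq_true_eq] at hg
        obtain ⟨⟨⟨hm, hyz⟩, hxz⟩, hnz⟩ := hg
        obtain ⟨hx, hy, hz⟩ := hK (x, y, z) List.mem_cons_self
        have hb : s y * s z * s y = s z * s y * s z := by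
          simp only [joined, Bool.or_eq_true, List.contains_iff_mem] at hyz
          rcases hyz with h | h
          · exact hbr _ h
          · exact (hbr _ h).symm
        have e' := hek x hx z hz hnz hxz
        have hez : s x * s z * (s x)⁻¹ = (s x * s z * (s x)⁻¹ * (s z)⁻¹) * s z := by group
        have heq := commutator_eq hb hec (hcen _ e') (h0 _ hm) hez
        rw [heq] at hez
        refine ih _ l (fun t ht => hK t (List.mem_cons_of_mem _ ht)) ?_ hl
        intro p hp
        simp only [List.mem_cons] at hp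
        rcases hp with rfl | rfl | hp
        · exact hez
        · exact symm x z hez
        · exact h0 p hp
      · simp at hl
  have hall := key d _ l hdK (by
    intro p hp
    simp only [List.mem_cons, List.not_mem_nil, or_false] at hp
    rcases hp with rfl | rfl
    · exact hbase
    · exact symm _ _ hbase) hd
  -- the odd word
  have hWk : (W.map s).prod ∈ σ.ker := by
    rw [MonoidHom.mem_ker, map_list_prod, List.map_map, show (σ ∘ s) = f from funext hs, hW1]
  have h1 := conj_word (s := s) (x := w) hec W (fun y hy => by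
    obtain ⟨hyK, hyw, hyj⟩ := hW y hy
    exact hall (w, y) (hcover w hw y hyK (Ne.symm hyw) hyj))
  rw [hcen _ hWk, mul_inv_cancel_right] at h1
  have he1 : e = 1 := by
    have h2 : e ^ W.length = 1 := mul_right_cancel (h1.symm.trans (one_mul _).symm)
    rwa [← Nat.mod_add_div W.length 2, pow_add, pow_mul, pow_two, he2, one_pow, mul_one, hodd, pow_one] at h2
  refine ⟨hcen c hck, hsq, ?_, ?_⟩
  · intro x _ y _ hxy
    simp only [joined, Bool.or_eq_true, List.contains_iff_mem] at hxy
    rcases hxy with h | h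
    · exact hbr _ h
    · exact (hbr _ h).symm
  · intro x hx y hy hxy
    rcases eq_or_ne x y with rfl | hne'
    · rfl
    · have h := hall (x, y) (hcover x hx y hy hne' hxy)
      rw [he1, one_mul, mul_inv_eq_iff_eq_mul] at h
      exact h

end Cfsg.Agent.Lib.FiMult
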