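import Cfsg.Agent.Lib.FiMult.ThreeCover
import Cfsg.Agent.Lib.M22Mult.Kernel
import Cfsg.Agent.InvChar.Coset.Fi23Class

/-!
# The multiplier of the presented Fi22 has order six
-/

set_option autoImplicit false

namespace Cfsg.Agent.Lib.FiMult.Fi22

open Cfsg Cfsg.Agent.InvChar.Coset
open scoped commutatorElement

/-- A perfect group with a non-split double cover has a stem extension with kernel of order two. -/
theorem stem_of_double_cover {H K : Type} [Group H] [Finite H] [Group K] (hK : commutator K = ⊤)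
    (h : Cfsg.IsNonsplitDoubleCover H K) :
    ∃ (Γ : Type) (_ : Group Γ) (_ : Finite Γ) (σ : Γ →* K), Cfsg.IsStemExtension σ ∧ Nat.card σ.ker = 2 := by
  obtain ⟨hcard, ⟨e⟩, hsplit⟩ := h
  refine ⟨H, inferInstance, inferInstance, e.toMonoidHom.comp (QuotientGroup.mk' _), ?_⟩
  have hker : (e.toMonoidHom.comp (QuotientGroup.mk' (Subgroup.center H))).ker = Subgroup.center H := by
    rw [← MonoidHom.comap_ker, (MonoidHom.ker_eq_bot_iff _).2 e.injective, MonoidHom.comap_bot,
      QuotientGroup.ker_mk']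
  have hsur : Function.Surjective (e.toMonoidHom.comp (QuotientGroup.mk' (Subgroup.center H))) :=
    e.surjective.comp (QuotientGroup.mk'_surjective _)
  refine ⟨⟨hsur, by rw [hker], ?_⟩, by rw [hker]; exact hcard⟩
  rw [hker]
  by_contra hle
  refine hsplit (commutator H) ?_
  refine Subgroup.isComplement'_of_disjoint_and_mul_eq_univ ?_ ?_
  · rw [disjoint_iff]
    haveI : Fact (Nat.Prime 2) := ⟨Nat.prime_two⟩
    have h2 := Subgroup.card_dvd_of_le (inf_le_left : Subgroup.center H ⊓ commutator H ≤ Subgroup.center H)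
    rw [hcard, Nat.dvd_prime Nat.prime_two] at h2
    rcases h2 with h2 | h2
    · exact Subgroup.card_eq_one.1 h2
    · exact absurd (inf_eq_left.1 (Subgroup.eq_of_le_of_card_ge inf_le_left (by rw [h2, hcard]))) hle
  · refine Set.eq_univ_of_forall fun u => ?_
    have hu : e.toMonoidHom.comp (QuotientGroup.mk' (Subgroup.center H)) u ∈
        (commutator H).map (e.toMonoidHom.comp (QuotientGroup.mk' (Subgroup.center H))) := by
      rw [commutator_def, Subgroup.map_commutator, Subgroup.map_top_of_surjective _ hsur, ← commutator_def, hK]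
      exact Subgroup.mem_top _
    obtain ⟨v, hv, ev⟩ := hu
    have hz : u * v⁻¹ ∈ Subgroup.center H := by
      rw [← hker, MonoidHom.mem_ker, map_mul, map_inv, ev, mul_inv_cancel]
    exact ⟨u * v⁻¹, hz, v, hv, inv_mul_cancel_right u v⟩

/-- A group of prime order is cyclic of that order. -/
theorem equiv_zmod {K : Type*} [Group K] {p : ℕ} [Fact p.Prime] (h : Nat.card K = p) :
    Nonempty (K ≃* Multiplicative (ZMod p)) := by
  haveI := isCyclic_of_prime_card h
  exact ⟨((zmodCyclicMulEquiv (G := K) inferInstance).symm).trans (h ▸ MulEquiv.refl _)⟩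

theorem mult_six : Cfsg.HasCyclicSchurMultiplier Spor.Fi22 6 := by
  haveI := FiUnit.finite_Fi
  refine ⟨?_, ?_⟩
  · haveI : Fact (Nat.Prime 2) := ⟨Nat.prime_two⟩
    haveI : Fact (Nat.Prime 3) := ⟨Nat.prime_three⟩
    haveI : Finite Spor.Fi23 := Nat.finite_of_card_ne_zero (by rw [Fi23G.card_GG]; norm_num)
    obtain ⟨X, _, _, σ, hσ, hX⟩ := stem_of_double_cover perfect Fi23G.double_cover_HH
    obtain ⟨Y, _, _, τ, hτ, hY⟩ := Three.exists_cover
    obtain ⟨eX⟩ := equiv_zmod (p := 2) hX
    obtain ⟨eY⟩ := equiv_zmod (p := 3) hY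
    exact M22Mult.fibre_product perfect (by norm_num) hσ eX hτ eY
  · intro Γ _ _ σ hst
    obtain ⟨z, z6, hz, hle⟩ := ker_image σ hst
    let g : ZMod 6 →+ Additive σ.ker :=
      ZMod.lift 6 ⟨zmultiplesHom _ (Additive.ofMul (⟨z, hz⟩ : σ.ker)), by
        rw [zmultiplesHom_apply, natCast_zsmul]
        exact Subtype.ext z6⟩
    refine ⟨AddMonoidHom.toMultiplicativeLeft g, fun w => ?_⟩
    obtain ⟨k, hk⟩ := Subgroup.mem_zpowers_iff.1 (hle w.2)
    refine ⟨Multiplicative.ofAdd (k : ZMod 6), ?_⟩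
    show Additive.toMul (g (k : ZMod 6)) = w
    rw [ZMod.lift_coe]
    exact Subtype.ext (by simpa using hk)

end Cfsg.Agent.Lib.FiMult.Fi22
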