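import Mathlib

/-!
# A section modulo a central subgroup
-/

set_option autoImplicit false

namespace Cfsg.Agent.Lib.FiMult

variable {E G : Type*} [Group E] [Group G] {σ : E →* G}

/-- A perfect central extension with a section modulo `B` has its kernel in `B`. -/
theorem ker_le_of_section (hc : σ.ker ≤ Subgroup.center E) (hperf : commutator E = ⊤) (B : Subgroup E) [B.Normal]
    (hB : B ≤ σ.ker) (ψ : G →* E ⧸ B) (hψ : ∀ g, QuotientGroup.lift B σ hB (ψ g) = g) :
    σ.ker ≤ B := by
  set q := QuotientGroup.mk' B with hq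
  set L := QuotientGroup.lift B σ hB with hL
  have hLq : ∀ u, L (q u) = σ u := fun u => rfl
  have hcen : ∀ v : E ⧸ B, L v = 1 → ∀ w, w * v = v * w := by
    intro v hv w
    obtain ⟨v, rfl⟩ := QuotientGroup.mk'_surjective B v
    obtain ⟨w, rfl⟩ := QuotientGroup.mk'_surjective B w
    have h : v ∈ σ.ker := MonoidHom.mem_ker.2 hv
    rw [← map_mul, ← map_mul, Subgroup.mem_center_iff.1 (hc h) w]
  have hker : ∀ v : E ⧸ B, L (v * (ψ (L v))⁻¹) = 1 := fun v => by rw [map_mul, map_inv, hψ, mul_inv_cancel]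
  let δ : E ⧸ B →* L.ker :=
    { toFun := fun v => ⟨v * (ψ (L v))⁻¹, hker v⟩
      map_one' := Subtype.ext (by simp)
      map_mul' := fun v w => Subtype.ext (by
        show v * w * (ψ (L (v * w)))⁻¹ = v * (ψ (L v))⁻¹ * (w * (ψ (L w))⁻¹)
        have h := hcen _ (hker w) (ψ (L v))⁻¹
        rw [mul_assoc v (ψ (L v))⁻¹, h, map_mul, map_mul, mul_inv_rev]
        group) }
  have hcomm : ∀ a b : L.ker, a * b = b * a := fun a b => Subtype.ext (hcen _ b.2 _)
  have htop : commutator E ≤ (δ.comp q).ker := by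
    rw [commutator_def, Subgroup.commutator_le]
    intro a _ b _
    rw [MonoidHom.mem_ker, commutatorElement_def, map_mul, map_mul, map_mul, map_inv, map_inv,
      hcomm ((δ.comp q) a)]
    group
  intro u hu
  have h1 : δ (q u) = 1 := htop (hperf ▸ Subgroup.mem_top u)
  have h2 : q u * (ψ (L (q u)))⁻¹ = 1 := congrArg Subtype.val h1
  rw [hLq, MonoidHom.mem_ker.1 hu, map_one, inv_one, mul_one] at h2
  exact (QuotientGroup.eq_one_iff u).1 h2

/-- A stem extension of a perfect group is perfect. -/
theorem perfect_of_stem (hd : σ.ker ≤ commutator E) (hs : Function.Surjective σ) (hG : commutator G = ⊤) :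
    commutator E = ⊤ := by
  rw [eq_top_iff]
  intro u _
  have h : σ u ∈ (commutator E).map σ := by
    rw [commutator_def, Subgroup.map_commutator, Subgroup.map_top_of_surjective _ hs, ← commutator_def, hG]
    exact Subgroup.mem_top _
  obtain ⟨v, hv, e⟩ := h
  have : v⁻¹ * u ∈ commutator E := hd (by rw [MonoidHom.mem_ker, map_mul, map_inv, e, inv_mul_cancel])
  simpa using Subgroup.mul_mem _ hv this

end Cfsg.Agent.Lib.FiMult
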