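import Cfsg.Agent.Lib.FiMult.Comm
import Cfsg.Agent.Lib.FiMult.Section
import Cfsg.Agent.Lib.FiMult.MovesData
import Cfsg.Agent.InvChar.Coset.FiUnitIso
import Cfsg.Prelude.Def_KGroupFacts

/-!
# Every stem extension of the presented Fi22 has kernel an image of the cyclic group of order six
-/

set_option autoImplicit false
set_option maxRecDepth 100000
set_option maxHeartbeats 1000000

namespace Cfsg.Agent.Lib.FiMult.Fi22

open Cfsg Cfsg.Agent.Lib.FiMult Cfsg.Agent.InvChar.Coset
open scoped commutatorElement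

/-- The joined pairs. -/
def ed : List (ℕ × ℕ) := [(7, 8), (3, 7), (5, 6), (4, 5), (3, 4), (2, 3), (1, 2), (0, 1)]

/-- The spreading of a commutator over the unjoined pairs. -/
def spreadList : List (ℕ × ℕ × ℕ) :=
  [(0, 2, 3), (0, 3, 4), (0, 4, 5), (0, 5, 6), (0, 3, 7), (0, 7, 8),
   (4, 0, 1), (4, 1, 2), (5, 0, 1), (5, 1, 2), (5, 2, 3), (6, 0, 1), (6, 1, 2), (6, 2, 3), (6, 3, 4),
   (7, 0, 1), (7, 1, 2), (8, 0, 1), (8, 1, 2), (8, 2, 3),
   (1, 4, 3), (6, 3, 7), (8, 3, 4), (8, 4, 5), (8, 5, 6), (5, 3, 7), (7, 5, 4)]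

/-- The word of a relator. -/
def rel (W : List ℕ) (n : ℕ) : List ℕ := (List.replicate n W).flatten

def spiderW : List ℕ := [3, 2, 1, 3, 4, 5, 3, 7, 8]
def twoW : List ℕ := [0, 1, 2, 3, 4, 5, 7]
def threeW : List ℕ := [1, 2, 3, 4, 5, 6, 7]
def fourW : List ℕ := [2, 3, 4, 5, 6, 7, 8]

/-- A relator as a product. -/
theorem mk_rel {A : Type*} [Group A] (φ : FreeGroup Spor.Fi22.Gen →* A) (g : ℕ → A)
    (h : ∀ x, φ (FreeGroup.of x) = g (Fi22B.idx x)) :
    φ ((Spor.Fi22.d * Spor.Fi22.c * Spor.Fi22.b * Spor.Fi22.d * Spor.Fi22.e * Spor.Fi22.f * Spor.Fi22.d *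
        Spor.Fi22.h * Spor.Fi22.i) ^ 10) = (spiderW.map g).prod ^ 10 ∧
    φ ((Spor.Fi22.a * Spor.Fi22.b * Spor.Fi22.c * Spor.Fi22.d * Spor.Fi22.e * Spor.Fi22.f * Spor.Fi22.h) ^ 9) =
        (twoW.map g).prod ^ 9 ∧
    φ ((Spor.Fi22.b * Spor.Fi22.c * Spor.Fi22.d * Spor.Fi22.e * Spor.Fi22.f * Spor.Fi22.g * Spor.Fi22.h) ^ 9) =
        (threeW.map g).prod ^ 9 := by
  simp only [map_pow, map_mul, h, Fi22B.idx, spiderW, twoW, threeW, List.map_cons, List.map_nil, List.prod_cons,
    List.prod_nil, mul_one, mul_assoc, and_self]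

/-- The generators. -/
noncomputable def f (x : ℕ) : Spor.Fi22 := Fi22B.data.gen x

theorem f_idx (x : Spor.Fi22.Gen) : f (Fi22B.idx x) = PresentedGroup.of x := Fi22B.data.gen_idx x

theorem f_sq (x : ℕ) : f x * f x = 1 := Fi22B.data.gen_sq x

theorem f_cox (x y : ℕ) (hx : x < 9) (hy : y < 9) :
    (f x * f y) ^ Spor.coxLabel Spor.Fi22.edges (Fi22B.ofIdx x) (Fi22B.ofIdx y) = 1 := by
  have h : PresentedGroup.mk (Spor.coxRelators Spor.Fi22.edges ∪ {r | r ∈ Spor.Fi22.extra})
      ((FreeGroup.of (Fi22B.ofIdx x) * FreeGroup.of (Fi22B.ofIdx y)) ^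
        Spor.coxLabel Spor.Fi22.edges (Fi22B.ofIdx x) (Fi22B.ofIdx y)) = 1 :=
    PresentedGroup.one_of_mem (Or.inl ⟨_, Fi22B.data.node _, _, Fi22B.data.node _, rfl⟩)
  have e : ∀ z < 9, Fi22B.idx (Fi22B.ofIdx z) = z := by decide
  rw [map_pow, map_mul] at h
  rw [← e x hx, ← e y hy, f_idx, f_idx, e x hx, e y hy]
  exact h

theorem f_extra : (spiderW.map f).prod ^ 10 = 1 ∧ (twoW.map f).prod ^ 9 = 1 ∧ (threeW.map f).prod ^ 9 = 1 := by
  obtain ⟨h1, h2, h3⟩ := mk_rel (PresentedGroup.mk (Spor.coxRelators Spor.Fi22.edges ∪ {r | r ∈ Spor.Fi22.extra}))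
    f (fun x => (f_idx x).symm)
  refine ⟨h1 ▸ ?_, h2 ▸ ?_, h3 ▸ ?_⟩ <;>
    exact PresentedGroup.one_of_mem (Or.inr (by simp [Spor.Fi22.extra]))

/-- The check of a word on the points. -/
def fixAll (w : List ℕ) : ℕ → Bool
  | 0 => true
  | n + 1 => (Fi22B.table.run w n == n) && fixAll w n

theorem fixAll_spec {w : List ℕ} : ∀ {n : ℕ}, fixAll w n = true → ∀ c < n, Fi22B.table.run w c = c
  | 0, _, _, hc => absurd hc (by omega)
  | n + 1, h, c, hc => by
    simp only [fixAll, Bool.and_eq_true, beq_iff_eq] at h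
    rcases Nat.lt_succ_iff_lt_or_eq.1 hc with hc | rfl
    · exact fixAll_spec h.2 c hc
    · exact h.1

theorem four_ok : fixAll (rel fourW 9).reverse 3510 = true := by decide +kernel

theorem wprod_reverse {A : Type*} [Group A] (g : ℕ → A) :
    ∀ w : List ℕ, CosetCert.wprod g w.reverse = (w.map g).prod
  | [] => rfl
  | y :: w => by
    rw [List.reverse_cons, CosetCert.wprod_append, wprod_reverse g w, List.map_cons, List.prod_cons]
    simp [CosetCert.wprod]

theorem four_one : ((rel fourW 9).map f).prod = 1 := by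
  rw [← wprod_reverse]
  refine FiUnit.phi_injective ?_
  rw [map_one]
  refine Equiv.ext fun c => Fin.ext ?_
  rw [show f = Fi22B.data.gen from rfl, FiUnit.phi_word (by decide +kernel),
    fixAll_spec four_ok c.1 (FiUnit.n_eq ▸ c.2)]
  rfl

theorem perfect : commutator Spor.Fi22 = ⊤ := by
  haveI := Fi22B.simple_and_card.1
  refine (IsSimpleGroup.eq_bot_or_eq_top_of_normal (commutator Spor.Fi22) inferInstance).resolve_left fun h => ?_
  have hm : ∀ x : Spor.Fi22, x ∈ Subgroup.center Spor.Fi22 := fun x => Subgroup.mem_center_iff.2 fun y => by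
    have : ⁅y, x⁆ ∈ commutator Spor.Fi22 := by
      rw [commutator_def]; exact Subgroup.commutator_mem_commutator (Subgroup.mem_top _) (Subgroup.mem_top _)
    rw [h, Subgroup.mem_bot, commutatorElement_eq_one_iff_mul_comm] at this
    exact this
  haveI := FiUnit.finite_Fi
  haveI : Fact (Nat.Prime 13) := ⟨by norm_num⟩
  obtain ⟨a, ha⟩ := exists_prime_orderOf_dvd_card' (G := Spor.Fi22) 13 (by rw [Fi22B.simple_and_card.2]; norm_num)
  have hn : (Subgroup.zpowers a).Normal := ⟨fun n hn g => by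
    rw [Subgroup.mem_center_iff.1 (hm n) g, mul_inv_cancel_right]; exact hn⟩
  have hcd : Nat.card (Subgroup.zpowers a) = 13 := by rw [Nat.card_zpowers, ha]
  rcases IsSimpleGroup.eq_bot_or_eq_top_of_normal (Subgroup.zpowers a) hn with e | e
  · rw [e, Subgroup.card_bot] at hcd
    exact absurd hcd (by norm_num)
  · rw [e, Subgroup.card_top, Fi22B.simple_and_card.2] at hcd
    exact absurd hcd (by norm_num)

/-- The kernel is generated by an element of order dividing six. -/
theorem ker_image {Γ : Type*} [Group Γ] (σ : Γ →* Spor.Fi22) (hst : Cfsg.IsStemExtension σ) :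
    ∃ z : Γ, z ^ 6 = 1 ∧ z ∈ σ.ker ∧ σ.ker ≤ Subgroup.zpowers z := by
  obtain ⟨hsur, hc, hd⟩ := hst
  have hcen : ∀ z ∈ σ.ker, ∀ v : Γ, v * z = z * v := fun z hz => Subgroup.mem_center_iff.1 (hc hz)
  obtain ⟨s, c, hck, hs, hsq, hbr⟩ := exists_tree_lifts hsur hc f f_sq 0 ed (by
      intro p hp
      have hK : ∀ p ∈ ed, p.1 < 9 ∧ p.2 < 9 ∧
          Spor.coxLabel Spor.Fi22.edges (Fi22B.ofIdx p.1) (Fi22B.ofIdx p.2) = 3 := by decide +kernel
      obtain ⟨h1, h2, h3⟩ := hK p hp
      simpa [h3] using f_cox p.1 p.2 h1 h2)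
    (by decide) (by
      intro l₁ p l₂ e
      have key : ∀ n < 8, ((ed.drop n).headD (0, 0)).1 ∈ (ed.drop (n + 1)).map Prod.snd ++ [0] := by decide +kernel
      have hlen : l₁.length < 8 := by
        have := congrArg List.length e
        simp [ed] at this
        omega
      have h1 : (ed.drop l₁.length) = p :: l₂ := by rw [e, List.drop_left]
      have h2 : ed.drop (l₁.length + 1) = l₂ := by rw [← List.drop_drop, h1]; rfl
      simpa [h1, h2] using key _ hlen)
  have hcover : ∀ l, spread ed spreadList [(0, 2), (2, 0)] = some l →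
      ∀ x < 9, ∀ y < 9, x ≠ y → joined ed x y = false → (x, y) ∈ l := by
    intro l hl
    have h : (match spread ed spreadList [(0, 2), (2, 0)] with
      | some l => (List.range 9).all fun x => (List.range 9).all fun y =>
          decide (x = y) || joined ed x y || l.contains (x, y)
      | none => false) = true := by decide +kernel
    rw [hl] at h
    simp only [List.all_eq_true, List.mem_range, Bool.or_eq_true, decide_eq_true_eq, List.contains_iff_mem] at h
    intro x hx y hy hne hj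
    simpa [hne, hj] using h x hx y hy
  obtain ⟨l, hl⟩ : ∃ l, spread ed spreadList [(0, 2), (2, 0)] = some l :=
    Option.isSome_iff_exists.1 (by decide +kernel)
  have hR : Rels 9 ed s c := rels_of_odd_word hc hck f hs
    (fun x hx => hsq x (by
      have : ∀ x < 9, x ∈ ed.map Prod.snd ++ [0] := by decide +kernel
      exact this x hx))
    hbr
    (fun x hx y hy hne hj => by
      have hK : ∀ x < 9, ∀ y < 9, x = y ∨ joined ed x y = true ∨
          Spor.coxLabel Spor.Fi22.edges (Fi22B.ofIdx x) (Fi22B.ofIdx y) = 2 := by decide +kernel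
      rcases hK x hx y hy with h | h | h
      · exact absurd h hne
      · rw [hj] at h; exact absurd h (by decide)
      · have h2 := f_cox x y hx hy
        rw [h, pow_two] at h2
        calc f x * f y = (f x * f y)⁻¹ := (inv_eq_of_mul_eq_one_right h2).symm
          _ = f y * f x := by
            rw [mul_inv_rev, inv_eq_of_mul_eq_one_right (f_sq y), inv_eq_of_mul_eq_one_right (f_sq x)])
    0 2 (by decide) (by decide) (by decide) (by decide) spreadList l hl (by decide +kernel) (hcover l hl)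
    0 (by decide) (rel fourW 9) (by decide +kernel) (by decide +kernel) four_one
  obtain ⟨h1, h2, h3⟩ := f_extra
  have hval : ∀ W : List ℕ, σ (W.map s).prod = (W.map f).prod := fun W => by
    rw [map_list_prod, List.map_map, show (σ ∘ s) = f from funext hs]
  obtain ⟨r₁, hr1⟩ : ∃ r, r = (spiderW.map s).prod ^ 10 := ⟨_, rfl⟩
  obtain ⟨r₂, hr2⟩ : ∃ r, r = (twoW.map s).prod ^ 9 := ⟨_, rfl⟩
  obtain ⟨r₃, hr3⟩ : ∃ r, r = (threeW.map s).prod ^ 9 := ⟨_, rfl⟩
  have k1 : r₁ ∈ σ.ker := by rw [MonoidHom.mem_ker, hr1, map_pow, hval, h1]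
  have k2 : r₂ ∈ σ.ker := by rw [MonoidHom.mem_ker, hr2, map_pow, hval, h2]
  have k3 : r₃ ∈ σ.ker := by rw [MonoidHom.mem_ker, hr3, map_pow, hval, h3]
  have two : r₂ * r₂ = c ^ 63 := by
    rw [hr2, ← pow_add, ← prod_replicate]
    exact hR.eval (is := sqTwoMoves) (by decide +kernel)
  have three : r₃ * r₃ = c ^ 63 := by
    rw [hr3, ← pow_add, ← prod_replicate]
    exact hR.eval (is := sqThreeMoves) (by decide +kernel)
  have triple : r₁ * r₁ * r₁ = c ^ 135 := by
    have hm : moves 9 ed tripleMoves (rel spiderW 10 ++ [3, 4, 2, 3] ++ rel spiderW 10 ++ [3, 2, 4, 3] ++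
        [8, 7, 5, 2] ++ rel spiderW 10 ++ [2, 5, 7, 8]) 0 = some ([], 143) := by decide +kernel
    have he := hR.eval hm
    simp only [rel, List.map_append, List.prod_append, prod_replicate, ← hr1] at he
    have hu : (([3, 4, 2, 3].map s).prod) * (([3, 2, 4, 3].map s).prod) = c ^ 4 := by
      rw [← List.prod_append, ← List.map_append]
      exact hR.eval (is := [3, 2, 1, 0]) (by decide +kernel)
    have hv : (([8, 7, 5, 2].map s).prod) * (([2, 5, 7, 8].map s).prod) = c ^ 4 := by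
      rw [← List.prod_append, ← List.map_append]
      exact hR.eval (is := [3, 2, 1, 0]) (by decide +kernel)
    generalize ([3, 4, 2, 3].map s).prod = u at he hu
    generalize ([3, 2, 4, 3].map s).prod = u' at he hu
    generalize ([8, 7, 5, 2].map s).prod = v at he hv
    generalize ([2, 5, 7, 8].map s).prod = v' at he hv
    have e : r₁ * u * r₁ * u' * v * r₁ * v' = r₁ * r₁ * r₁ * ((u * u') * (v * v')) := by
      calc r₁ * u * r₁ * u' * v * r₁ * v' = r₁ * (u * r₁) * u' * (v * r₁) * v' := by group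
        _ = r₁ * (r₁ * u) * u' * (r₁ * v) * v' := by rw [hcen r₁ k1 u, hcen r₁ k1 v]
        _ = r₁ * r₁ * ((u * u') * r₁) * (v * v') := by group
        _ = r₁ * r₁ * (r₁ * (u * u')) * (v * v') := by rw [hcen r₁ k1 (u * u')]
        _ = r₁ * r₁ * r₁ * ((u * u') * (v * v')) := by group
    rw [e, hu, hv, ← pow_add, show (143 : ℕ) = 135 + (4 + 4) from rfl, pow_add c 135] at he
    exact mul_right_cancel he
  set p := r₁ * (c ^ 45)⁻¹ with hp
  set q := r₃ * r₂⁻¹ with hq
  have kc : ∀ n : ℕ, c ^ n ∈ σ.ker := fun n => pow_mem hck n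
  have kp : p ∈ σ.ker := mul_mem k1 (inv_mem (kc 45))
  have kq : q ∈ σ.ker := mul_mem k3 (inv_mem k2)
  have p3 : p ^ 3 = 1 := by
    rw [hp, (show Commute r₁ (c ^ 45)⁻¹ from hcen _ (inv_mem (kc 45)) r₁).mul_pow, inv_pow, ← pow_mul,
      mul_inv_eq_one, pow_succ, pow_two]
    exact triple
  have q2 : q ^ 2 = 1 := by
    rw [hq, (show Commute r₃ r₂⁻¹ from hcen _ (inv_mem k2) r₃).mul_pow, inv_pow, mul_inv_eq_one, pow_two, pow_two,
      two, three]
  have hpq : Commute p q := hcen q kq p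
  refine ⟨p * q, ?_, mul_mem kp kq, ?_⟩
  · rw [hpq.mul_pow, show 6 = 3 * 2 from rfl, pow_mul, p3, one_pow, one_mul, mul_comm 3 2, pow_mul, q2, one_pow]
  set B := Subgroup.zpowers (p * q) with hB
  have hBk : B ≤ σ.ker := Subgroup.zpowers_le.2 (mul_mem kp kq)
  haveI : B.Normal := ⟨fun n hn g => by rw [hcen n (hBk hn) g, mul_inv_cancel_right]; exact hn⟩
  have pB : p ∈ B := Subgroup.mem_zpowers_iff.2 ⟨4, by
    rw [show (4 : ℤ) = ((4 : ℕ) : ℤ) from rfl, zpow_natCast, hpq.mul_pow,
      show q ^ 4 = (q ^ 2) ^ 2 by rw [← pow_mul], q2, one_pow, mul_one, pow_succ p 3, p3, one_mul]⟩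
  have qB : q ∈ B := Subgroup.mem_zpowers_iff.2 ⟨3, by
    rw [show (3 : ℤ) = ((3 : ℕ) : ℤ) from rfl, zpow_natCast, hpq.mul_pow, p3, one_mul, pow_succ q 2, q2, one_mul]⟩
  -- rescaled lifts
  set u := r₂ * (c ^ 31)⁻¹ with hu
  have ku : u ∈ σ.ker := mul_mem k2 (inv_mem (kc 31))
  have hu2 : u * u = c := by
    rw [hu, show r₂ * (c ^ 31)⁻¹ * (r₂ * (c ^ 31)⁻¹) = r₂ * ((c ^ 31)⁻¹ * r₂) * (c ^ 31)⁻¹ by group,
      ← hcen _ (inv_mem (kc 31)) r₂, show r₂ * (r₂ * (c ^ 31)⁻¹) * (c ^ 31)⁻¹ = (r₂ * r₂) * (c ^ (31 + 31))⁻¹ by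
        group, two]
    group
  set t : ℕ → Γ := fun x => s x * u⁻¹ with ht
  have hword : ∀ W : List ℕ, (W.map t).prod = (W.map s).prod * (u ^ W.length)⁻¹ := by
    intro W
    induction W with
    | nil => simp
    | cons y W ih =>
      rw [List.map_cons, List.prod_cons, ih, List.map_cons, List.prod_cons, List.length_cons, pow_succ, ht]
      show s y * u⁻¹ * ((W.map s).prod * (u ^ W.length)⁻¹) = s y * (W.map s).prod * (u ^ W.length * u)⁻¹
      rw [show s y * u⁻¹ * ((W.map s).prod * (u ^ W.length)⁻¹) =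
        s y * (u⁻¹ * (W.map s).prod) * (u ^ W.length)⁻¹ by group, ← hcen _ (inv_mem ku) (W.map s).prod]
      group
  have tpow : ∀ (W : List ℕ) (n : ℕ), (W.map t).prod ^ n = (W.map s).prod ^ n * (u ^ (W.length * n))⁻¹ := by
    intro W n
    rw [hword, (show Commute (W.map s).prod (u ^ W.length)⁻¹ from hcen _ (inv_mem (pow_mem ku _)) _).mul_pow,
      inv_pow, ← pow_mul]
  have hu90 : u ^ (9 * 10) = c ^ 45 := by rw [show 9 * 10 = 2 * 45 from rfl, pow_mul, pow_two, hu2]
  have hu63 : u ^ (7 * 9) = r₂ := by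
    rw [show 7 * 9 = 1 + 2 * 31 from rfl, pow_add, pow_mul, pow_two, hu2, pow_one, hu, inv_mul_cancel_right]
  set m := QuotientGroup.mk' B with hm
  have htpair : ∀ x < 9, ∀ y < 9,
      m ((t x * t y) ^ Spor.coxLabel Spor.Fi22.edges (Fi22B.ofIdx x) (Fi22B.ofIdx y)) = 1 := by
    intro x hx y hy
    have hK : ∀ x < 9, ∀ y < 9, (x = y ∧ Spor.coxLabel Spor.Fi22.edges (Fi22B.ofIdx x) (Fi22B.ofIdx y) = 1) ∨
        (joined ed x y = true ∧ Spor.coxLabel Spor.Fi22.edges (Fi22B.ofIdx x) (Fi22B.ofIdx y) = 3) ∨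
        (joined ed x y = false ∧ Spor.coxLabel Spor.Fi22.edges (Fi22B.ofIdx x) (Fi22B.ofIdx y) = 2) := by
      decide +kernel
    have hw : t x * t y = ([x, y].map t).prod := by simp
    rw [hw, tpow, show ([x, y].map s).prod = s x * s y by simp]
    show m ((s x * s y) ^ _ * (u ^ (2 * _))⁻¹) = 1
    rw [pow_mul, pow_two, hu2]
    rcases hK x hx y hy with ⟨rfl, h⟩ | ⟨hj, h⟩ | ⟨hj, h⟩ <;> rw [h]
    · rw [pow_one, pow_one, hR.sq x hx, mul_inv_cancel, map_one]
    · rw [show (s x * s y) ^ 3 = (s x * s y * s x) * (s y * s x * s y) by simp [pow_succ, mul_assoc],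
        ← hR.braid x hx y hy hj,
        show s x * s y * s x * (s x * s y * s x) = s x * s y * (s x * s x) * s y * s x by group, hR.sq x hx,
        show s x * s y * c * s y * s x = s x * (s y * c) * (s y * s x) by group, hcen c hck,
        show s x * (c * s y) * (s y * s x) = (s x * c) * (s y * s y) * s x by group, hcen c hck, hR.sq y hy,
        show c * s x * c * s x = c * (s x * c) * s x by group, hcen c hck,
        show c * (c * s x) * s x = c * c * (s x * s x) by group, hR.sq x hx,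
        show c * c * c = c ^ 3 by simp [pow_succ], mul_inv_cancel, map_one]
    · rw [show (s x * s y) ^ 2 = s x * (s y * s x) * s y by simp [pow_succ, mul_assoc], ← hR.comm x hx y hy hj,
        show s x * (s x * s y) * s y = (s x * s x) * (s y * s y) by group, hR.sq x hx, hR.sq y hy,
        show c ^ 2 = c * c from pow_two c, mul_inv_cancel, map_one]
  have hrel : ∀ r ∈ Spor.coxRelators Spor.Fi22.edges ∪ {r | r ∈ Spor.Fi22.extra},
      FreeGroup.lift (fun x => m (t (Fi22B.idx x))) r = 1 := by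
    have hl : ∀ x, FreeGroup.lift (fun x => m (t (Fi22B.idx x))) (FreeGroup.of x) = (m ∘ t) (Fi22B.idx x) :=
      fun x => FreeGroup.lift_apply_of ..
    obtain ⟨l1, l2, l3⟩ := mk_rel (FreeGroup.lift fun x => m (t (Fi22B.idx x))) (m ∘ t) hl
    have hmt : ∀ W : List ℕ, (W.map (m ∘ t)).prod = m (W.map t).prod := fun W => by
      rw [map_list_prod, List.map_map]
    rintro r (⟨x, -, y, -, rfl⟩ | hr)
    · rw [map_pow, map_mul, hl, hl, Function.comp_apply, Function.comp_apply, ← map_mul, ← map_pow]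
      have := htpair (Fi22B.idx x) (Fi22B.data.lt x) (Fi22B.idx y) (Fi22B.data.lt y)
      rwa [show Fi22B.ofIdx (Fi22B.idx x) = x from Fi22B.data.left x,
        show Fi22B.ofIdx (Fi22B.idx y) = y from Fi22B.data.left y] at this
    · simp only [Spor.Fi22.extra, Set.mem_ofPred_eq, List.mem_cons, List.not_mem_nil, or_false] at hr
      rcases hr with rfl | rfl | rfl
      · rw [l1, hmt, ← map_pow, tpow]
        exact (QuotientGroup.eq_one_iff _).2 (by
          rw [← hr1, show spiderW.length = 9 from rfl]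
          rw [hu90]; exact pB)
      · rw [l2, hmt, ← map_pow, tpow]
        exact (QuotientGroup.eq_one_iff _).2 (by
          rw [← hr2, show twoW.length = 7 from rfl]
          rw [hu63, mul_inv_cancel]; exact one_mem _)
      · rw [l3, hmt, ← map_pow, tpow]
        exact (QuotientGroup.eq_one_iff _).2 (by
          rw [← hr3, show threeW.length = 7 from rfl]
          rw [hu63]; exact qB)
  refine ker_le_of_section hc (perfect_of_stem hd hsur perfect) B hBk (PresentedGroup.toGroup hrel) ?_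
  have : (QuotientGroup.lift B σ hBk).comp (PresentedGroup.toGroup hrel) = MonoidHom.id _ :=
    PresentedGroup.ext fun x => by
      rw [MonoidHom.comp_apply, PresentedGroup.toGroup.of, MonoidHom.id_apply, ← f_idx]
      show σ (s (Fi22B.idx x) * u⁻¹) = _
      rw [map_mul, map_inv, MonoidHom.mem_ker.1 ku, inv_one, mul_one, hs]
  exact fun g => DFunLike.congr_fun this g

end Cfsg.Agent.Lib.FiMult.Fi22
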