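import Cfsg.Agent.Lib.FiMult.ThreeCover
import Cfsg.Agent.Lib.FiMult.Fi23Data

/-!
# A commutator that has different values in a point stabiliser of Fi23
-/

set_option autoImplicit false
set_option maxRecDepth 100000
set_option maxHeartbeats 1000000

namespace Cfsg.Agent.Lib.FiMult.TwentyThree

open Cfsg Cfsg.Agent.Lib.FiMult Cfsg.Agent.InvChar.Coset
open scoped commutatorElement

/-- The letters of the point stabiliser in the numbering of the whole group. -/
def up (x : ℕ) : ℕ := [0, 1, 2, 3, 4, 5, 6, 8, 9].getD x 0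

/-- The product of the lifts with a reversed word. -/
theorem prod_reverse {E : Type*} [Group E] {K : ℕ} {ed : List (ℕ × ℕ)} {s : ℕ → E} {c : E}
    (h : Rels K ed s c) : ∀ W : List ℕ, (∀ y ∈ W, y < K) →
      (W.reverse.map s).prod * (W.map s).prod = c ^ W.length
  | [], _ => by simp
  | y :: W, hW => by
    have ih := prod_reverse h W (fun z hz => hW z (List.mem_cons_of_mem _ hz))
    rw [List.reverse_cons, List.map_append, List.prod_append, List.map_cons, List.map_nil, List.prod_cons,
      List.prod_nil, mul_one, List.map_cons, List.prod_cons, List.length_cons, pow_succ, ← ih]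
    calc (W.reverse.map s).prod * s y * (s y * (W.map s).prod)
        = (W.reverse.map s).prod * (s y * s y) * (W.map s).prod := by group
      _ = (W.reverse.map s).prod * (W.map s).prod * c := by
        rw [h.sq y (hW y List.mem_cons_self), mul_assoc, ← h.central (W.map s).prod, ← mul_assoc]

theorem gam_commutator : ((aWord ++ bWord).map Three.t).prod =
    Three.z ^ 2 * ((bWord ++ aWord).map Three.t).prod := by
  have hk : Three.wordRows (aWord ++ bWord) =
      Three.mul Three.omegaRows (Three.mul Three.omegaRows (Three.wordRows (bWord ++ aWord))) := by decide +kernel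
  have hl : Three.omegaRows.length = 54 := Three.spider_rows ▸ Three.wordRows_length _
  refine Subtype.ext (Units.ext ?_)
  rw [Subgroup.coe_mul, Subgroup.coe_pow, Three.coe_word, Three.coe_word, Three.coe_z, pow_two, mul_assoc,
    Units.val_mul, Units.val_mul, Three.wordRows_spec, Three.wordRows_spec, Three.omega, Three.wordRows_spec,
    Three.spider_rows, Three.mat_mul hl (Three.wordRows_length _),
    Three.mat_mul hl (by rw [Three.mul, List.length_map, hl]), hk]

theorem gam_pairs : ∀ x < 9, ∀ y < 9, Three.wordRows (List.replicate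
    (Spor.coxLabel Spor.Fi22.edges (Fi22B.ofIdx x) (Fi22B.ofIdx y)) [x, y]).flatten = Three.oneRows := by
  decide +kernel

theorem gam_seven : Three.wordRows (Fi22.rel Fi22.twoW 9) = Three.oneRows ∧
    Three.wordRows (Fi22.rel Fi22.threeW 9) = Three.oneRows := by decide +kernel

theorem gam_one {w : List ℕ} (h : Three.wordRows w = Three.oneRows) : (w.map Three.t).prod = 1 :=
  Subtype.ext (by rw [Three.coe_word]; exact Three.word_eq (v := []) (by rw [h]; rfl))

/-- The predicate of the central part. -/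
def Central {E : Type*} [Group E] (c r q p : E) (v : E × Three.Gam × Multiplicative ℤ) : Prop :=
  ∃ i l j m : ℤ, v.1 = c ^ i * r ^ l * q ^ j * p ^ m ∧ v.2.1 = Three.z ^ m ∧
    Multiplicative.toAdd v.2.2 = 2 * i + 63 * (l + j)

/-- Comparing a commutator in the point stabiliser with its value in the threefold cover of Fi22. -/
theorem pow_four {E : Type*} [Group E] {K : ℕ} {ed : List (ℕ × ℕ)} {s : ℕ → E} {c : E} (hR : Rels K ed s c)
    (p r q : E) (hp : ∀ u, u * p = p * u) (hr : ∀ u, u * r = r * u)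
    (hq : ∀ x < 9, s (up x) * q = q * s (up x)) (hqc : q * c = c * q)
    (hK : ∀ x < 9, up x < K)
    (hed : ∀ x < 9, ∀ y < 9, x ≠ y → joined ed (up x) (up y) = joined Fi22.ed x y)
    (hspider : ((Fi22.spiderW.map up).map s).prod ^ 10 = c ^ 45 * p)
    (htwo : ((Fi22.twoW.map up).map s).prod ^ 9 = r) (hthree : ((Fi22.threeW.map up).map s).prod ^ 9 = q)
    (hp3 : p ^ 3 = 1) (hr2 : r * r = c ^ 63) (hq2 : q * q = c ^ 63) :
    (((aWord.map up).map s).prod * ((bWord.map up).map s).prod * (((aWord.map up).map s).prod)⁻¹ *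
      (((bWord.map up).map s).prod)⁻¹) ^ 4 = p ^ 2 := by
  let u : ℕ → E × Three.Gam × Multiplicative ℤ := fun x => (s (up x), Three.t x, Multiplicative.ofAdd 1)
  let Δ := Subgroup.closure (u '' {x | x < 9})
  have huΔ : ∀ x < 9, u x ∈ Δ := fun x hx => Subgroup.subset_closure ⟨x, hx, rfl⟩
  have hwordΔ : ∀ W : List ℕ, (∀ x ∈ W, x < 9) → (W.map u).prod ∈ Δ := fun W hW =>
    Subgroup.list_prod_mem _ fun v hv => by
      obtain ⟨x, hx, rfl⟩ := List.mem_map.1 hv
      exact huΔ x (hW x hx)
  have hu : ∀ W : List ℕ, (W.map u).prod =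
      (((W.map up).map s).prod, (W.map Three.t).prod, Multiplicative.ofAdd (W.length : ℤ)) := by
    intro W
    induction W with
    | nil => simp [Prod.ext_iff]
    | cons y W ih =>
      simp only [List.map_cons, List.prod_cons, ih, u, Prod.mk_mul_mk, List.length_cons, Nat.cast_add,
        Nat.cast_one, ← ofAdd_add, add_comm (1 : ℤ)]
  have hcr : Commute c r := hr c
  have hqr : Commute q r := hr q
  have hqc' : Commute q c := hqc
  have mulC : ∀ v w : E × Three.Gam × Multiplicative ℤ, Central c r q p v → Central c r q p w →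
      Central c r q p (v * w) := by
    rintro v w ⟨i, l, j, m, e1, e2, e3⟩ ⟨i', l', j', m', f1, f2, f3⟩
    refine ⟨i + i', l + l', j + j', m + m', ?_, ?_, ?_⟩
    · rw [Prod.fst_mul, e1, f1, zpow_add, zpow_add, zpow_add, zpow_add]
      have h1 : ∀ X : E, Commute (p ^ m) X := fun X => (Commute.zpow_left (show Commute p X from (hp X).symm) m)
      have h2 : Commute (q ^ j) (c ^ i') := hqc'.zpow_zpow j i'
      have h3 : Commute (q ^ j) (r ^ l') := hqr.zpow_zpow j l'
      have h4 : Commute (r ^ l) (c ^ i') := hcr.symm.zpow_zpow l i'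
      calc c ^ i * r ^ l * q ^ j * p ^ m * (c ^ i' * r ^ l' * q ^ j' * p ^ m')
          = c ^ i * r ^ l * q ^ j * (p ^ m * (c ^ i' * r ^ l' * q ^ j')) * p ^ m' := by group
        _ = c ^ i * r ^ l * (q ^ j * c ^ i') * r ^ l' * q ^ j' * p ^ m * p ^ m' := by rw [(h1 _).eq]; group
        _ = c ^ i * (r ^ l * c ^ i') * (q ^ j * r ^ l') * q ^ j' * p ^ m * p ^ m' := by rw [h2.eq]; group
        _ = c ^ i * c ^ i' * (r ^ l * r ^ l') * (q ^ j * q ^ j') * (p ^ m * p ^ m') := by
          rw [h4.eq, h3.eq]; group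
    · rw [Prod.snd_mul, Prod.fst_mul, e2, f2, zpow_add]
    · rw [Prod.snd_mul, Prod.snd_mul, toAdd_mul, e3, f3]; ring
  have oneC : Central c r q p 1 := ⟨0, 0, 0, 0, by simp, by simp, by simp⟩
  have invC : ∀ v, Central c r q p v → Central c r q p v⁻¹ := by
    rintro v ⟨i, l, j, m, e1, e2, e3⟩
    refine ⟨-i, -l, -j, -m, ?_, ?_, ?_⟩
    · rw [Prod.fst_inv, e1]
      have h2 : Commute (q ^ (-j)) (c ^ (-i)) := hqc'.zpow_zpow _ _
      have h3 : Commute (q ^ (-j)) (r ^ (-l)) := hqr.zpow_zpow _ _
      have h4 : Commute (r ^ (-l)) (c ^ (-i)) := hcr.symm.zpow_zpow _ _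
      have h1 : ∀ X : E, Commute (p ^ (-m)) X := fun X => (Commute.zpow_left (show Commute p X from (hp X).symm) _)
      calc (c ^ i * r ^ l * q ^ j * p ^ m)⁻¹ = p ^ (-m) * (q ^ (-j) * (r ^ (-l) * c ^ (-i))) := by group
        _ = p ^ (-m) * ((c ^ (-i)) * (q ^ (-j) * r ^ (-l))) := by
          rw [h4.eq, ← mul_assoc (q ^ (-j)), h2.eq, mul_assoc]
        _ = c ^ (-i) * r ^ (-l) * q ^ (-j) * p ^ (-m) := by rw [(h1 _).eq, h3.eq]; group
    · rw [Prod.snd_inv, Prod.fst_inv, e2, zpow_neg]
    · rw [Prod.snd_inv, Prod.snd_inv, toAdd_inv, e3]; ring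
  let D0 : Subgroup (E × Three.Gam × Multiplicative ℤ) :=
    { carrier := {v | Central c r q p v}
      mul_mem' := fun hv hw => mulC _ _ hv hw
      one_mem' := oneC
      inv_mem' := fun hv => invC _ hv }
  have hcenΔ : ∀ v ∈ D0, ∀ w ∈ Δ, w * v = v * w := by
    rintro v ⟨i, l, j, m, e1, e2, -⟩ w hw
    have h1 : w.1 * v.1 = v.1 * w.1 := by
      have hwq : Commute w.1 q := by
        induction hw using Subgroup.closure_induction with
        | mem w hw => obtain ⟨x, hx, rfl⟩ := hw; exact hq x hx
        | one => exact Commute.one_left q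
        | mul a b _ _ ha hb => exact ha.mul_left hb
        | inv a _ ha => exact ha.inv_left
      rw [e1]
      exact ((((show Commute w.1 c from hR.central _).zpow_right i).mul_right
        ((show Commute w.1 r from hr _).zpow_right l)).mul_right (hwq.zpow_right j)).mul_right
        ((show Commute w.1 p from hp _).zpow_right m)
    refine Prod.ext h1 (Prod.ext ?_ (mul_comm _ _))
    show w.2.1 * v.2.1 = v.2.1 * w.2.1
    rw [e2]
    exact Subgroup.mem_center_iff.1 (zpow_mem Three.z_central m) _
  let D : Subgroup Δ := D0.subgroupOf Δ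
  haveI : D.Normal := ⟨fun n hn g => by
    have h := hcenΔ n.1 hn g.1 g.2
    have e : g * n = n * g := Subtype.ext h
    rwa [e, mul_inv_cancel_right]⟩
  let m : Δ →* Δ ⧸ D := QuotientGroup.mk' D
  let v : ℕ → Δ := fun x => if hx : x < 9 then ⟨u x, huΔ x hx⟩ else 1
  have hv : ∀ W : List ℕ, (∀ x ∈ W, x < 9) → (((W.map v).prod : Δ) : E × Three.Gam × Multiplicative ℤ) =
      (W.map u).prod := by
    intro W hW
    induction W with
    | nil => rfl
    | cons y W ih =>
      rw [List.map_cons, List.prod_cons, Subgroup.coe_mul, ih (fun x hx => hW x (List.mem_cons_of_mem _ hx)),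
        List.map_cons, List.prod_cons, show v y = ⟨u y, huΔ y (hW y List.mem_cons_self)⟩ from
          dif_pos (hW y List.mem_cons_self)]
  have hrelw : ∀ W : List ℕ, (∀ x ∈ W, x < 9) →
      Central c r q p (((W.map up).map s).prod, (W.map Three.t).prod, Multiplicative.ofAdd (W.length : ℤ)) →
      m (W.map v).prod = 1 := fun W hW h => (QuotientGroup.eq_one_iff _).2 (by
        show ((W.map v).prod : Δ).1 ∈ D0
        rw [hv W hW, hu W]; exact h)
  have hpair : ∀ x < 9, ∀ y < 9,
      m ((v x * v y) ^ Spor.coxLabel Spor.Fi22.edges (Fi22B.ofIdx x) (Fi22B.ofIdx y)) = 1 := by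
    intro x hx y hy
    have hW : v x * v y = ([x, y].map v).prod := by simp
    rw [hW, ← prod_replicate]
    refine hrelw _ (fun z hz => by
      simp only [List.mem_flatten, List.mem_replicate] at hz
      obtain ⟨l, ⟨-, rfl⟩, hz⟩ := hz
      simp only [List.mem_cons, List.not_mem_nil, or_false] at hz
      rcases hz with rfl | rfl <;> assumption) ?_
    set k := Spor.coxLabel Spor.Fi22.edges (Fi22B.ofIdx x) (Fi22B.ofIdx y) with hk
    refine ⟨(k : ℤ), 0, 0, 0, ?_, ?_, ?_⟩
    · show _ = _
      rw [zpow_natCast, zpow_zero, zpow_zero, zpow_zero, mul_one, mul_one, mul_one, List.map_flatten,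
        List.map_flatten, List.map_replicate, List.map_replicate, List.prod_flatten, List.map_replicate,
        List.prod_replicate]
      simp only [List.map_cons, List.map_nil, List.prod_cons, List.prod_nil, mul_one]
      have hx' := hK x hx
      have hy' := hK y hy
      have hK3 : ∀ x < 9, ∀ y < 9, (x = y ∧ Spor.coxLabel Spor.Fi22.edges (Fi22B.ofIdx x) (Fi22B.ofIdx y) = 1) ∨
          (x ≠ y ∧ joined Fi22.ed x y = true ∧ Spor.coxLabel Spor.Fi22.edges (Fi22B.ofIdx x) (Fi22B.ofIdx y) = 3) ∨
          (x ≠ y ∧ joined Fi22.ed x y = false ∧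
            Spor.coxLabel Spor.Fi22.edges (Fi22B.ofIdx x) (Fi22B.ofIdx y) = 2) := by
        decide +kernel
      rcases hK3 x hx y hy with ⟨rfl, h⟩ | ⟨hne, hj, h⟩ | ⟨hne, hj, h⟩ <;> rw [hk, h]
      · rw [pow_one, pow_one, hR.sq _ hx']
      · rw [show (s (up x) * s (up y)) ^ 3 = (s (up x) * s (up y) * s (up x)) * (s (up y) * s (up x) * s (up y)) by
            simp [pow_succ, mul_assoc],
          ← hR.braid _ hx' _ hy' ((hed x hx y hy hne).trans hj),
          show s (up x) * s (up y) * s (up x) * (s (up x) * s (up y) * s (up x)) =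
            s (up x) * s (up y) * (s (up x) * s (up x)) * (s (up y) * s (up x)) by group, hR.sq _ hx',
          show s (up x) * s (up y) * c * (s (up y) * s (up x)) = (s (up x) * s (up y) * c) * s (up y) * s (up x) by
            group, hR.central,
          show c * (s (up x) * s (up y)) * s (up y) * s (up x) = c * (s (up x) * (s (up y) * s (up y))) * s (up x) by
            group, hR.sq _ hy', hR.central (s (up x)),
          show c * (c * s (up x)) * s (up x) = c * c * (s (up x) * s (up x)) by group, hR.sq _ hx']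
        simp [pow_succ]
      · rw [show (s (up x) * s (up y)) ^ 2 = s (up x) * (s (up y) * s (up x)) * s (up y) by simp [pow_succ, mul_assoc],
          ← hR.comm _ hx' _ hy' ((hed x hx y hy hne).trans hj),
          show s (up x) * (s (up x) * s (up y)) * s (up y) = (s (up x) * s (up x)) * (s (up y) * s (up y)) by group,
          hR.sq _ hx', hR.sq _ hy', pow_two]
    · show _ = _
      rw [zpow_zero]
      exact gam_one (gam_pairs x hx y hy)
    · show ((List.replicate k [x, y]).flatten.length : ℤ) = _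
      simp [List.length_flatten, List.map_replicate, List.sum_replicate, mul_comm]
  have hmv : ∀ W : List ℕ, (W.map (m ∘ v)).prod = m (W.map v).prod := fun W => by
    rw [map_list_prod, List.map_map]
  have hrel : ∀ w ∈ Spor.coxRelators Spor.Fi22.edges ∪ {w | w ∈ Spor.Fi22.extra},
      FreeGroup.lift (fun x => m (v (Fi22B.idx x))) w = 1 := by
    have hl : ∀ x, FreeGroup.lift (fun x => m (v (Fi22B.idx x))) (FreeGroup.of x) = (m ∘ v) (Fi22B.idx x) :=
      fun x => FreeGroup.lift_apply_of ..
    obtain ⟨l1, l2, l3⟩ := Fi22.mk_rel (FreeGroup.lift fun x => m (v (Fi22B.idx x))) (m ∘ v) hl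
    rintro w (⟨x, -, y, -, rfl⟩ | hw)
    · rw [map_pow, map_mul, hl, hl, Function.comp_apply, Function.comp_apply, ← map_mul, ← map_pow]
      have := hpair (Fi22B.idx x) (Fi22B.data.lt x) (Fi22B.idx y) (Fi22B.data.lt y)
      rwa [show Fi22B.ofIdx (Fi22B.idx x) = x from Fi22B.data.left x,
        show Fi22B.ofIdx (Fi22B.idx y) = y from Fi22B.data.left y] at this
    · simp only [Spor.Fi22.extra, Set.mem_ofPred_eq, List.mem_cons, List.not_mem_nil, or_false] at hw
      have lt9 : ∀ W ∈ [Fi22.rel Fi22.spiderW 10, Fi22.rel Fi22.twoW 9, Fi22.rel Fi22.threeW 9],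
          ∀ x ∈ W, x < 9 := by decide +kernel
      rcases hw with rfl | rfl | rfl
      · rw [l1, hmv, ← map_pow, ← prod_replicate]
        refine hrelw _ (lt9 (Fi22.rel Fi22.spiderW 10) (by simp)) ⟨45, 0, 0, 1, ?_, ?_, ?_⟩
        · show _ = _
          rw [← Fi22.rel, Fi22.rel, List.map_flatten, List.map_replicate, prod_replicate, hspider, zpow_ofNat,
            zpow_zero, zpow_zero, mul_one, mul_one, zpow_one]
        · show _ = _
          rw [zpow_one, Three.z]; rfl
        · rfl
      · rw [l2, hmv, ← map_pow, ← prod_replicate]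
        refine hrelw _ (lt9 (Fi22.rel Fi22.twoW 9) (by simp)) ⟨0, 1, 0, 0, ?_, ?_, ?_⟩
        · show _ = _
          rw [List.map_flatten, List.map_replicate, prod_replicate, htwo]; simp
        · show _ = _
          rw [zpow_zero]; exact gam_one gam_seven.1
        · rfl
      · rw [l3, hmv, ← map_pow, ← prod_replicate]
        refine hrelw _ (lt9 (Fi22.rel Fi22.threeW 9) (by simp)) ⟨0, 0, 1, 0, ?_, ?_, ?_⟩
        · show _ = _
          rw [List.map_flatten, List.map_replicate, prod_replicate, hthree]; simp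
        · show _ = _
          rw [zpow_zero]; exact gam_one gam_seven.2
        · rfl
  let ψ : Spor.Fi22 →* Δ ⧸ D := PresentedGroup.toGroup hrel
  have hψ : ∀ W : List ℕ, (∀ x ∈ W, x < 9) → ψ (W.map Fi22.f).prod = m (W.map v).prod := by
    intro W hW
    induction W with
    | nil => simp
    | cons y W ih =>
      have e : ∀ z < 9, Fi22B.idx (Fi22B.ofIdx z) = z := by decide
      have hy := hW y List.mem_cons_self
      rw [List.map_cons, List.prod_cons, map_mul, ih (fun x hx => hW x (List.mem_cons_of_mem _ hx)),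
        List.map_cons, List.prod_cons, map_mul]
      congr 1
      rw [← e y hy, Fi22.f_idx, show ψ (PresentedGroup.of (Fi22B.ofIdx y)) = _ from PresentedGroup.toGroup.of hrel]
  have ha : ∀ x ∈ aWord, x < 9 := by decide +kernel
  have hb : ∀ x ∈ bWord, x < 9 := by decide +kernel
  -- the two words commute in Fi22
  have hthree' : ∀ W : List ℕ, (∀ x ∈ W, x < 9) → Three.ψ (W.map Fi22.f).prod = Three.mk (W.map Three.t).prod := by
    intro W hW
    induction W with
    | nil => simp
    | cons y W ih =>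
      rw [List.map_cons, List.prod_cons, map_mul, ih (fun x hx => hW x (List.mem_cons_of_mem _ hx)),
        List.map_cons, List.prod_cons, map_mul, Three.ψ_gen (hW y List.mem_cons_self)]
  have hcomm : (aWord.map Fi22.f).prod * (bWord.map Fi22.f).prod =
      (bWord.map Fi22.f).prod * (aWord.map Fi22.f).prod := by
    refine Three.ψ_injective ?_
    rw [map_mul, map_mul, hthree' _ ha, hthree' _ hb, ← map_mul, ← map_mul, ← List.prod_append, ← List.prod_append,
      ← List.map_append, ← List.map_append, gam_commutator, map_mul,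
      show Three.mk (Three.z ^ 2) = 1 from (QuotientGroup.eq_one_iff _).2 (pow_mem (Subgroup.mem_zpowers _) 2),
      one_mul]
  have hd : m ((aWord.map v).prod * (bWord.map v).prod * ((aWord.map v).prod)⁻¹ * ((bWord.map v).prod)⁻¹) = 1 := by
    rw [map_mul, map_mul, map_mul, map_inv, map_inv, ← hψ _ ha, ← hψ _ hb, ← map_mul, hcomm, map_mul]
    group
  have hd' := (QuotientGroup.eq_one_iff _).1 hd
  change (((aWord.map v).prod * (bWord.map v).prod * ((aWord.map v).prod)⁻¹ * ((bWord.map v).prod)⁻¹ : Δ) :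
    E × Three.Gam × Multiplicative ℤ) ∈ D0 at hd'
  rw [Subgroup.coe_mul, Subgroup.coe_mul, Subgroup.coe_mul, Subgroup.coe_inv, Subgroup.coe_inv, hv _ ha, hv _ hb,
    hu, hu] at hd'
  obtain ⟨i, l, j, n, e1, e2, e3⟩ := hd'
  simp only [Prod.fst_mul, Prod.snd_mul, Prod.fst_inv, Prod.snd_inv, toAdd_mul, toAdd_inv, toAdd_ofAdd] at e1 e2 e3
  have hn : Three.z ^ n = Three.z ^ (2 : ℤ) := by
    rw [← e2, show (2 : ℤ) = ((2 : ℕ) : ℤ) from rfl, zpow_natCast, ← List.prod_append, ← List.map_append,
      gam_commutator, List.map_append, List.prod_append]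
    group
  have hpz : ∀ k : ℤ, p ^ (3 * k) = 1 := fun k => by
    rw [zpow_mul, zpow_ofNat, hp3, one_zpow]
  have hn3 : (3 : ℤ) ∣ n - 2 := by
    have : Three.z ^ (n - 2) = 1 := by rw [zpow_sub, hn, mul_inv_cancel]
    have := orderOf_dvd_iff_zpow_eq_one.2 this
    rwa [Three.z_order] at this
  obtain ⟨k, hk⟩ := hn3
  rw [e1]
  have hcom : Commute (c ^ i * r ^ l * q ^ j) (p ^ n) := ((show Commute _ p from hp _).zpow_right n)
  have hcom2 : Commute (c ^ i * r ^ l) (q ^ j) :=
    ((hqc'.symm.zpow_zpow i j)).mul_left (hqr.symm.zpow_zpow l j)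
  rw [hcom.mul_pow, hcom2.mul_pow, (hcr.zpow_zpow i l).mul_pow]
  have h4 : ∀ (w : E) (a : ℤ), (w ^ a) ^ 4 = (w * w) ^ (2 * a) := fun w a => by
    rw [← zpow_natCast, ← zpow_mul, show w * w = w ^ (2 : ℤ) from (zpow_two w).symm, ← zpow_mul]
    congr 1
    push_cast
    ring
  rw [h4 r, h4 q, hr2, hq2, ← zpow_natCast c 63, ← zpow_mul, ← zpow_mul, ← zpow_natCast (c ^ i), ← zpow_mul,
    ← zpow_add, ← zpow_add]
  have hz : i * ((4 : ℕ) : ℤ) + ((63 : ℕ) : ℤ) * (2 * l) + ((63 : ℕ) : ℤ) * (2 * j) = 0 := by push_cast; linarith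
  rw [hz, zpow_zero, one_mul, ← zpow_natCast, ← zpow_mul,
    show n * ((4 : ℕ) : ℤ) = 3 * (4 * k + 2) + ((2 : ℕ) : ℤ) by push_cast; linarith, zpow_add, hpz, one_mul,
    zpow_natCast]

end Cfsg.Agent.Lib.FiMult.TwentyThree
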