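import Cfsg.Agent.Lib.FiMult.Fi23Commutator
import Cfsg.Agent.Lib.FiMult.Fi23Moves
import Cfsg.Agent.InvChar.Coset.Fi23OutPoints

/-!
# Every stem extension of the presented Fi23 is an isomorphism
-/

set_option autoImplicit false
set_option maxRecDepth 100000
set_option maxHeartbeats 1000000

namespace Cfsg.Agent.Lib.FiMult.TwentyThree

open Cfsg Cfsg.Agent.Lib.FiMult Cfsg.Agent.InvChar.Coset
open scoped commutatorElement

/-- The joined pairs. -/
def ed : List (ℕ × ℕ) := [(8, 9), (3, 8), (6, 7), (5, 6), (4, 5), (3, 4), (2, 3), (1, 2), (0, 1)]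

/-- The spreading of a commutator over the unjoined pairs. -/
def spreadList : List (ℕ × ℕ × ℕ) :=
  [(0, 2, 3), (0, 3, 4), (0, 3, 8), (3, 0, 1), (0, 4, 5), (0, 8, 9), (1, 3, 4), (1, 3, 8), (0, 5, 6), (1, 4, 5),
   (1, 8, 9), (4, 1, 2), (8, 1, 2), (0, 6, 7), (1, 5, 6), (2, 4, 5), (2, 8, 9), (1, 6, 7), (2, 5, 6), (5, 2, 3),
   (9, 2, 3), (2, 6, 7), (3, 5, 6), (5, 3, 8), (9, 3, 4), (3, 6, 7), (4, 9, 8), (5, 8, 9), (6, 3, 4), (6, 3, 8),
   (4, 6, 7), (6, 8, 9), (7, 3, 8), (7, 4, 5), (7, 8, 9)]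

def spiderW : List ℕ := [3, 2, 1, 3, 4, 5, 3, 8, 9]
def twoW : List ℕ := [0, 1, 2, 3, 4, 5, 8]
def coxW : List ℕ := [1, 2, 3, 4, 5, 6, 8]

/-- A relator as a product. -/
theorem mk_rel {A : Type*} [Group A] (φ : FreeGroup Spor.Fi23.Gen →* A) (g : ℕ → A)
    (h : ∀ x, φ (FreeGroup.of x) = g (Fi23G.idx x)) :
    φ ((Spor.Fi23.d * Spor.Fi23.c * Spor.Fi23.b * Spor.Fi23.d * Spor.Fi23.e * Spor.Fi23.f * Spor.Fi23.d *
        Spor.Fi23.h * Spor.Fi23.i) ^ 10) = (spiderW.map g).prod ^ 10 ∧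
    φ ((Spor.Fi23.a * Spor.Fi23.b * Spor.Fi23.c * Spor.Fi23.d * Spor.Fi23.e * Spor.Fi23.f * Spor.Fi23.h) ^ 9) =
        (twoW.map g).prod ^ 9 := by
  simp only [map_pow, map_mul, h, Fi23G.idx, spiderW, twoW, List.map_cons, List.map_nil, List.prod_cons,
    List.prod_nil, mul_one, mul_assoc, and_self]

/-- The generators. -/
noncomputable def f (x : ℕ) : Spor.Fi23 := Fi23G.data.gen x

theorem f_idx (x : Spor.Fi23.Gen) : f (Fi23G.idx x) = PresentedGroup.of x := Fi23G.data.gen_idx x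

theorem f_sq (x : ℕ) : f x * f x = 1 := Fi23G.data.gen_sq x

theorem f_cox (x y : ℕ) (hx : x < 10) (hy : y < 10) :
    (f x * f y) ^ Spor.coxLabel Spor.Fi23.edges (Fi23G.ofIdx x) (Fi23G.ofIdx y) = 1 := by
  have h : PresentedGroup.mk (Spor.coxRelators Spor.Fi23.edges ∪ {r | r ∈ Spor.Fi23.extra})
      ((FreeGroup.of (Fi23G.ofIdx x) * FreeGroup.of (Fi23G.ofIdx y)) ^
        Spor.coxLabel Spor.Fi23.edges (Fi23G.ofIdx x) (Fi23G.ofIdx y)) = 1 :=
    PresentedGroup.one_of_mem (Or.inl ⟨_, Fi23G.data.node _, _, Fi23G.data.node _, rfl⟩)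
  have e : ∀ z < 10, Fi23G.idx (Fi23G.ofIdx z) = z := by decide
  rw [map_pow, map_mul] at h
  rw [← e x hx, ← e y hy, f_idx, f_idx, e x hx, e y hy]
  exact h

theorem f_extra : (spiderW.map f).prod ^ 10 = 1 ∧ (twoW.map f).prod ^ 9 = 1 := by
  obtain ⟨h1, h2⟩ := mk_rel (PresentedGroup.mk (Spor.coxRelators Spor.Fi23.edges ∪ {r | r ∈ Spor.Fi23.extra}))
    f (fun x => (f_idx x).symm)
  refine ⟨h1 ▸ ?_, h2 ▸ ?_⟩ <;>
    exact PresentedGroup.one_of_mem (Or.inr (by simp [Spor.Fi23.extra]))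

theorem el_reverse (w : List ℕ) : Fi23G.el w.reverse = (w.map f).prod :=
  Fi22.wprod_reverse Fi23G.data.gen w

theorem seven_eq : ((Fi22.rel coxW 9).map f).prod = Fi23G.z := by
  rw [← el_reverse, Fi23G.z, show (Fi22.rel coxW 9).reverse = Fi23G.zW by decide +kernel]

/-- The check of a word on the points of the generators. -/
noncomputable def fixPts (w : List ℕ) : Bool :=
  (List.range 10).all fun k => decide (TreePerm.seqN Fi23G.permList w (Fi23Out.ptG k) = Fi23Out.ptG k)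

theorem one_of_fixPts {w : List ℕ} (hw : ∀ y ∈ w, y < 10) (h : fixPts w.reverse = true) : (w.map f).prod = 1 := by
  rw [← el_reverse]
  refine Fi23Out.eq_one_of_fix fun k hk => Fin.ext ?_
  rw [Fi23G.φ_point (fun y hy => hw y (List.mem_reverse.1 hy)), Fi23Out.cpt_val hk]
  simp only [fixPts, List.all_eq_true, List.mem_range, decide_eq_true_eq] at h
  exact h k hk

/-- The word saying that the conjugated first element is the first stabiliser word. -/
def xCheck : List ℕ := vW ++ xW ++ vW.reverse ++ (aWord.map up).reverse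

/-- The word saying that the conjugated second element is the second stabiliser word. -/
def yCheck : List ℕ := vW ++ yW ++ vW.reverse ++ Fi22.rel coxW 9 ++ (bWord.map up).reverse

theorem checks_lt : (∀ y ∈ xCheck, y < 10) ∧ (∀ y ∈ yCheck, y < 10) := by decide +kernel

theorem xCheck_ok : fixPts xCheck.reverse = true := by decide +kernel

theorem yCheck_ok : fixPts yCheck.reverse = true := by decide +kernel

theorem letters_lt : (∀ y ∈ xW, y < 10) ∧ (∀ y ∈ yW, y < 10) ∧ (∀ y ∈ vW, y < 10) ∧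
    (∀ y ∈ aWord.map up, y < 10) ∧ (∀ y ∈ bWord.map up, y < 10) := by decide +kernel

theorem perfect : commutator Spor.Fi23 = ⊤ := by
  haveI := Fi23G.simple
  refine (IsSimpleGroup.eq_bot_or_eq_top_of_normal (commutator Spor.Fi23) inferInstance).resolve_left fun h => ?_
  refine Fi23G.z_ne ?_
  rw [← Subgroup.mem_bot, ← Fi23Out.center_GG, Subgroup.mem_center_iff]
  intro g
  have hm : ⁅g, Fi23G.z⁆ ∈ commutator Spor.Fi23 := by
    rw [commutator_def]; exact Subgroup.commutator_mem_commutator (Subgroup.mem_top _) (Subgroup.mem_top _)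
  rw [h, Subgroup.mem_bot, commutatorElement_eq_one_iff_mul_comm] at hm
  exact hm

/-- The kernel is trivial. -/
theorem ker_trivial {Γ : Type*} [Group Γ] (σ : Γ →* Spor.Fi23) (hst : Cfsg.IsStemExtension σ) : σ.ker = ⊥ := by
  obtain ⟨hsur, hc, hd⟩ := hst
  have hcen : ∀ z ∈ σ.ker, ∀ v : Γ, v * z = z * v := fun z hz => Subgroup.mem_center_iff.1 (hc hz)
  obtain ⟨s, c, hck, hs, hsq, hbr⟩ := exists_tree_lifts hsur hc f f_sq 0 ed (by
      intro p hp
      have hK : ∀ p ∈ ed, p.1 < 10 ∧ p.2 < 10 ∧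
          Spor.coxLabel Spor.Fi23.edges (Fi23G.ofIdx p.1) (Fi23G.ofIdx p.2) = 3 := by decide +kernel
      obtain ⟨h1, h2, h3⟩ := hK p hp
      simpa [h3] using f_cox p.1 p.2 h1 h2)
    (by decide) (by
      intro l₁ p l₂ e
      have key : ∀ n < 9, ((ed.drop n).headD (0, 0)).1 ∈ (ed.drop (n + 1)).map Prod.snd ++ [0] := by decide +kernel
      have hlen : l₁.length < 9 := by
        have := congrArg List.length e
        simp [ed] at this
        omega
      have h1 : (ed.drop l₁.length) = p :: l₂ := by rw [e, List.drop_left]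
      have h2 : ed.drop (l₁.length + 1) = l₂ := by rw [← List.drop_drop, h1]; rfl
      simpa [h1, h2] using key _ hlen)
  have hcover : ∀ l, spread ed spreadList [(0, 2), (2, 0)] = some l →
      ∀ x < 10, ∀ y < 10, x ≠ y → joined ed x y = false → (x, y) ∈ l := by
    intro l hl
    have h : (match spread ed spreadList [(0, 2), (2, 0)] with
      | some l => (List.range 10).all fun x => (List.range 10).all fun y =>
          decide (x = y) || joined ed x y || l.contains (x, y)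
      | none => false) = true := by decide +kernel
    rw [hl] at h
    simp only [List.all_eq_true, List.mem_range, Bool.or_eq_true, decide_eq_true_eq, List.contains_iff_mem] at h
    intro x hx y hy hne hj
    simpa [hne, hj] using h x hx y hy
  obtain ⟨l, hl⟩ : ∃ l, spread ed spreadList [(0, 2), (2, 0)] = some l :=
    Option.isSome_iff_exists.1 (by decide +kernel)
  obtain ⟨h1, h2⟩ := f_extra
  have hR : Rels 10 ed s c := rels_of_odd_word hc hck f hs
    (fun x hx => hsq x (by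
      have : ∀ x < 10, x ∈ ed.map Prod.snd ++ [0] := by decide +kernel
      exact this x hx))
    hbr
    (fun x hx y hy hne hj => by
      have hK : ∀ x < 10, ∀ y < 10, x = y ∨ joined ed x y = true ∨
          Spor.coxLabel Spor.Fi23.edges (Fi23G.ofIdx x) (Fi23G.ofIdx y) = 2 := by decide +kernel
      rcases hK x hx y hy with h | h | h
      · exact absurd h hne
      · rw [hj] at h; exact absurd h (by decide)
      · have h3 := f_cox x y hx hy
        rw [h, pow_two] at h3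
        calc f x * f y = (f x * f y)⁻¹ := (inv_eq_of_mul_eq_one_right h3).symm
          _ = f y * f x := by
            rw [mul_inv_rev, inv_eq_of_mul_eq_one_right (f_sq y), inv_eq_of_mul_eq_one_right (f_sq x)])
    0 2 (by decide) (by decide) (by decide) (by decide) spreadList l hl (by decide +kernel) (hcover l hl)
    7 (by decide) (Fi22.rel twoW 9) (by decide +kernel) (by decide +kernel)
    (by rw [Fi22.rel, prod_replicate, h2])
  have hval : ∀ W : List ℕ, σ (W.map s).prod = (W.map f).prod := fun W => by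
    rw [map_list_prod, List.map_map, show (σ ∘ s) = f from funext hs]
  obtain ⟨r₁, hr1⟩ : ∃ r, r = (spiderW.map s).prod ^ 10 := ⟨_, rfl⟩
  obtain ⟨r₂, hr2⟩ : ∃ r, r = (twoW.map s).prod ^ 9 := ⟨_, rfl⟩
  obtain ⟨q, hq0⟩ : ∃ r, r = (coxW.map s).prod ^ 9 := ⟨_, rfl⟩
  have k1 : r₁ ∈ σ.ker := by rw [MonoidHom.mem_ker, hr1, map_pow, hval, h1]
  have k2 : r₂ ∈ σ.ker := by rw [MonoidHom.mem_ker, hr2, map_pow, hval, h2]
  have hσq : σ q = Fi23G.z := by rw [hq0, map_pow, hval, ← prod_replicate]; exact seven_eq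
  have kc : ∀ n : ℕ, c ^ n ∈ σ.ker := fun n => pow_mem hck n
  have two : r₂ * r₂ = c ^ 63 := by
    rw [hr2, ← pow_add, ← prod_replicate]
    exact hR.eval (is := sqTwoMoves) (by decide +kernel)
  have qq : q * q = c ^ 63 := by
    rw [hq0, ← pow_add, ← prod_replicate]
    exact hR.eval (is := sqThreeMoves) (by decide +kernel)
  have hqs : ∀ y ∈ coxW, s y * q = q * s y := by
    have hm : ∀ y ∈ coxW, ((([cenBMoves, cenCMoves, cenDMoves, cenEMoves, cenFMoves, cenGMoves, cenHMoves].any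
        fun is => decide (moves 10 ed is (Fi22.rel coxW 9 ++ [y] ++ (Fi22.rel coxW 9).reverse ++ [y]) 0 =
          some ([], 64))) = true)) := by decide +kernel
    intro y hy
    obtain ⟨is, -, his⟩ := List.any_eq_true.1 (hm y hy)
    have he := hR.eval (of_decide_eq_true his)
    have hy10 : y < 10 := (show ∀ y ∈ coxW, y < 10 by decide) y hy
    have hrev := prod_reverse hR (Fi22.rel coxW 9) (by decide +kernel)
    rw [Fi22.rel, prod_replicate, ← hq0, ← Fi22.rel, show (Fi22.rel coxW 9).length = 63 by decide +kernel] at hrev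
    simp only [List.map_append, List.prod_append, List.map_cons, List.map_nil, List.prod_cons, List.prod_nil,
      mul_one] at he
    rw [show ((Fi22.rel coxW 9).map s).prod = q by rw [Fi22.rel, prod_replicate, hq0]] at he
    rw [eq_mul_inv_of_mul_eq hrev, show q * s y * (c ^ 63 * q⁻¹) * s y = q * (s y * c ^ 63) * q⁻¹ * s y by group,
      hcen _ (kc 63), show q * (c ^ 63 * s y) * q⁻¹ * s y = (q * c ^ 63) * (s y * q⁻¹ * s y) by group,
      hcen _ (kc 63), pow_succ c 63, mul_assoc] at he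
    have he' := mul_left_cancel he
    calc s y * q = q * (q⁻¹ * s y * q) := by group
      _ = q * s y := by
        congr 1
        have : q * (s y * q⁻¹ * s y) = s y * s y := by rw [hR.sq y hy10]; exact he'
        calc q⁻¹ * s y * q = q⁻¹ * (s y * s y) * (s y)⁻¹ * q := by group
          _ = s y := by rw [← this]; group
  have hout : ∀ a b, joined ed a b = true → a < 10 → b < 10 → a ∈ coxW → b ∈ Fi23G.top → s b * q = q * s b := by
    intro a b hab ha hb hac hbt
    have hk : q * s b * q⁻¹ * (s b)⁻¹ ∈ σ.ker := by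
      rw [MonoidHom.mem_ker, map_mul, map_mul, map_mul, map_inv, map_inv, hs, hσq,
        Fi23G.z_comm (h := f b) (Subgroup.subset_closure ⟨b, hbt, rfl⟩)]
      group
    have h := commutator_eq (x := q) (y := s a) (z := s b) (e := 1) (e' := q * s b * q⁻¹ * (s b)⁻¹)
      (hR.braid a ha b hb hab) (fun u => by rw [one_mul, mul_one]) (hcen _ hk)
      (by rw [one_mul, mul_inv_eq_iff_eq_mul]; exact (hqs a hac).symm) (by group)
    rw [mul_inv_eq_one, mul_inv_eq_iff_eq_mul] at h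
    exact h.symm
  have hqall : ∀ x < 9, s (up x) * q = q * s (up x) := by
    intro x hx
    have hcase : ∀ x < 9, up x ∈ coxW ∨ up x = 0 ∨ up x = 9 := by decide
    rcases hcase x hx with h | h | h
    · exact hqs _ h
    · rw [h]; exact hout 1 0 (by decide) (by decide) (by decide) (by decide) (by decide)
    · rw [h]; exact hout 8 9 (by decide) (by decide) (by decide) (by decide) (by decide)
  have triple : r₁ * r₁ * r₁ = c ^ 135 := by
    have hm : moves 10 ed tripleMoves (Fi22.rel spiderW 10 ++ [3, 4, 2, 3] ++ Fi22.rel spiderW 10 ++ [3, 2, 4, 3] ++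
        [9, 8, 5, 2] ++ Fi22.rel spiderW 10 ++ [2, 5, 8, 9]) 0 = some ([], 143) := by decide +kernel
    have he := hR.eval hm
    simp only [Fi22.rel, List.map_append, List.prod_append, prod_replicate, ← hr1] at he
    have hu : (([3, 4, 2, 3].map s).prod) * (([3, 2, 4, 3].map s).prod) = c ^ 4 := by
      rw [← List.prod_append, ← List.map_append]
      exact hR.eval (is := [3, 2, 1, 0]) (by decide +kernel)
    have hv : (([9, 8, 5, 2].map s).prod) * (([2, 5, 8, 9].map s).prod) = c ^ 4 := by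
      rw [← List.prod_append, ← List.map_append]
      exact hR.eval (is := [3, 2, 1, 0]) (by decide +kernel)
    generalize ([3, 4, 2, 3].map s).prod = u at he hu
    generalize ([3, 2, 4, 3].map s).prod = u' at he hu
    generalize ([9, 8, 5, 2].map s).prod = v at he hv
    generalize ([2, 5, 8, 9].map s).prod = v' at he hv
    have e : r₁ * u * r₁ * u' * v * r₁ * v' = r₁ * r₁ * r₁ * ((u * u') * (v * v')) := by
      calc r₁ * u * r₁ * u' * v * r₁ * v' = r₁ * (u * r₁) * u' * (v * r₁) * v' := by group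
        _ = r₁ * (r₁ * u) * u' * (r₁ * v) * v' := by rw [hcen r₁ k1 u, hcen r₁ k1 v]
        _ = r₁ * r₁ * ((u * u') * r₁) * (v * v') := by group
        _ = r₁ * r₁ * (r₁ * (u * u')) * (v * v') := by rw [hcen r₁ k1 (u * u')]
        _ = r₁ * r₁ * r₁ * ((u * u') * (v * v')) := by group
    rw [e, hu, hv, ← pow_add, show (143 : ℕ) = 135 + (4 + 4) from rfl, pow_add c 135] at he
    exact mul_right_cancel he
  set p := r₁ * (c ^ 45)⁻¹ with hp
  have kp : p ∈ σ.ker := mul_mem k1 (inv_mem (kc 45))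
  have p3 : p ^ 3 = 1 := by
    rw [hp, (show Commute r₁ (c ^ 45)⁻¹ from hcen _ (inv_mem (kc 45)) r₁).mul_pow, inv_pow, ← pow_mul,
      mul_inv_eq_one, pow_succ, pow_two]
    exact triple
  have r1p : r₁ = c ^ 45 * p := by rw [hp, hcen _ (inv_mem (kc 45)), mul_inv_cancel_left]
  -- the commutator in the spider subgroup
  obtain ⟨X, hX⟩ : ∃ X, X = (xW.map s).prod := ⟨_, rfl⟩
  obtain ⟨Y, hY⟩ : ∃ Y, Y = (yW.map s).prod := ⟨_, rfl⟩
  obtain ⟨A, hA⟩ : ∃ A, A = ((aWord.map up).map s).prod := ⟨_, rfl⟩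
  obtain ⟨B, hB⟩ : ∃ B, B = ((bWord.map up).map s).prod := ⟨_, rfl⟩
  obtain ⟨lx, ly, lv, la, lb⟩ := letters_lt
  have hinvw : ∀ W : List ℕ, (∀ y ∈ W, y < 10) → (W.reverse.map s).prod = c ^ W.length * ((W.map s).prod)⁻¹ :=
    fun W hW => eq_mul_inv_of_mul_eq (prod_reverse hR W hW)
  have hval1 : X * Y * X⁻¹ * Y⁻¹ = p := by
    have hm : moves 10 ed commMoves (xW ++ yW ++ xW.reverse ++ yW.reverse ++ Fi22.rel spiderW 10 ++ gW ++
        Fi22.rel spiderW 10 ++ gW.reverse) 0 = some ([], 149) := by decide +kernel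
    have he := hR.eval hm
    simp only [List.map_append, List.prod_append, Fi22.rel, prod_replicate, ← hr1, ← hX, ← hY, hinvw xW lx,
      hinvw yW ly, hinvw gW (by decide +kernel)] at he
    rw [show xW.length = 32 by rfl, show yW.length = 21 by rfl, show gW.length = 6 by rfl] at he
    generalize (gW.map s).prod = g at he
    rw [show X * Y * (c ^ 32 * X⁻¹) * (c ^ 21 * Y⁻¹) * r₁ * g * r₁ * (c ^ 6 * g⁻¹) =
      (X * Y * c ^ 32) * X⁻¹ * c ^ 21 * Y⁻¹ * r₁ * (g * r₁) * c ^ 6 * g⁻¹ by group, hcen r₁ k1 g,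
      hcen _ (kc 32) (X * Y),
      show c ^ 32 * (X * Y) * X⁻¹ * c ^ 21 * Y⁻¹ * r₁ * (r₁ * g) * c ^ 6 * g⁻¹ =
        c ^ 32 * ((X * Y * X⁻¹) * c ^ 21) * Y⁻¹ * (r₁ * r₁) * (g * c ^ 6) * g⁻¹ by group,
      hcen _ (kc 21) (X * Y * X⁻¹), hcen _ (kc 6) g,
      show c ^ 32 * (c ^ 21 * (X * Y * X⁻¹)) * Y⁻¹ * (r₁ * r₁) * (c ^ 6 * g) * g⁻¹ =
        c ^ (32 + 21) * ((X * Y * X⁻¹ * Y⁻¹) * (r₁ * r₁ * c ^ 6)) by group] at he
    generalize X * Y * X⁻¹ * Y⁻¹ = d at he ⊢
    rw [show r₁ * r₁ * c ^ 6 = c ^ 96 * (p * p) by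
      rw [r1p, show c ^ 45 * p * (c ^ 45 * p) * c ^ 6 = c ^ 45 * (p * c ^ 45) * (p * c ^ 6) by group,
        hcen _ (kc 45) p, hcen _ (kc 6) p,
        show c ^ 45 * (c ^ 45 * p) * (c ^ 6 * p) = c ^ (45 + 45) * (p * c ^ 6) * p by group, hcen _ (kc 6) p]
      group, show c ^ (32 + 21) * (d * (c ^ 96 * (p * p))) = c ^ (32 + 21) * (d * c ^ 96) * (p * p) by group,
      hcen _ (kc 96) d, show c ^ (32 + 21) * (c ^ 96 * d) * (p * p) = c ^ (32 + 21 + 96) * (d * (p * p)) by group] at he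
    have hd : d * (p * p) = 1 := mul_left_cancel (he.trans (mul_one _).symm)
    calc d = d * (p * p) * p * (p ^ 3)⁻¹ := by rw [pow_succ, pow_two]; group
      _ = p := by rw [hd, p3, one_mul, inv_one, mul_one]
  obtain ⟨g, hg⟩ : ∃ g, g = (vW.map s).prod := ⟨_, rfl⟩
  have hα : g * X * g⁻¹ * A⁻¹ ∈ σ.ker := by
    have h := one_of_fixPts checks_lt.1 xCheck_ok
    rw [← hval, ← MonoidHom.mem_ker, xCheck, List.map_append, List.map_append, List.map_append, List.prod_append,
      List.prod_append, List.prod_append, hinvw vW lv, hinvw _ la, ← hg, ← hX, ← hA] at h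
    obtain ⟨n, hn⟩ : ∃ n, n = vW.length := ⟨_, rfl⟩
    obtain ⟨m, hm⟩ : ∃ m, m = (aWord.map up).length := ⟨_, rfl⟩
    rw [← hn, ← hm, show g * X * (c ^ n * g⁻¹) * (c ^ m * A⁻¹) = (g * X * c ^ n) * g⁻¹ * c ^ m * A⁻¹ by group,
      hcen _ (kc n) (g * X), show c ^ n * (g * X) * g⁻¹ * c ^ m * A⁻¹ = c ^ n * ((g * X * g⁻¹) * c ^ m) * A⁻¹ by group,
      hcen _ (kc m), show c ^ n * (c ^ m * (g * X * g⁻¹)) * A⁻¹ = c ^ (n + m) * (g * X * g⁻¹ * A⁻¹) by group,
      Subgroup.mul_mem_cancel_left _ (kc (n + m))] at h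
    exact h
  have hβ : g * Y * g⁻¹ * (B * q⁻¹)⁻¹ ∈ σ.ker := by
    have h := one_of_fixPts checks_lt.2 yCheck_ok
    rw [← hval, ← MonoidHom.mem_ker, yCheck, List.map_append, List.map_append, List.map_append, List.map_append,
      List.prod_append, List.prod_append, List.prod_append, List.prod_append, hinvw vW lv, hinvw _ lb,
      ← hg, ← hY, ← hB, show ((Fi22.rel coxW 9).map s).prod = q by rw [Fi22.rel, prod_replicate, hq0]] at h
    obtain ⟨n, hn⟩ : ∃ n, n = vW.length := ⟨_, rfl⟩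
    obtain ⟨m, hm⟩ : ∃ m, m = (bWord.map up).length := ⟨_, rfl⟩
    rw [← hn, ← hm, show g * Y * (c ^ n * g⁻¹) * q * (c ^ m * B⁻¹) = (g * Y * c ^ n) * g⁻¹ * q * c ^ m * B⁻¹ by group,
      hcen _ (kc n) (g * Y),
      show c ^ n * (g * Y) * g⁻¹ * q * c ^ m * B⁻¹ = c ^ n * ((g * Y * g⁻¹ * q) * c ^ m) * B⁻¹ by group,
      hcen _ (kc m), show c ^ n * (c ^ m * (g * Y * g⁻¹ * q)) * B⁻¹ = c ^ (n + m) * (g * Y * g⁻¹ * (B * q⁻¹)⁻¹) by group,
      Subgroup.mul_mem_cancel_left _ (kc (n + m))] at h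
    exact h
  have hAq : A * q = q * A := by
    rw [hA]
    have : ∀ W : List ℕ, (∀ x ∈ W, x < 9) → Commute ((W.map up).map s).prod q := by
      intro W hW
      induction W with
      | nil => exact Commute.one_left q
      | cons y W ih =>
        rw [List.map_cons, List.map_cons, List.prod_cons]
        exact (show Commute (s (up y)) q from hqall y (hW y List.mem_cons_self)).mul_left
          (ih fun x hx => hW x (List.mem_cons_of_mem _ hx))
    exact this aWord (by decide +kernel)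
  -- the commutator is not changed by conjugation
  have hval2 : A * B * A⁻¹ * B⁻¹ = p := by
    obtain ⟨α, hαdef⟩ : ∃ α, α = g * X * g⁻¹ * A⁻¹ := ⟨_, rfl⟩
    obtain ⟨β, hβdef⟩ : ∃ β, β = g * Y * g⁻¹ * (B * q⁻¹)⁻¹ := ⟨_, rfl⟩
    rw [← hαdef] at hα
    rw [← hβdef] at hβ
    have ex : g * X * g⁻¹ = α * A := by rw [hαdef]; group
    have ey : g * Y * g⁻¹ = β * (B * q⁻¹) := by rw [hβdef]; group
    have hconj : g * X * g⁻¹ * (g * Y * g⁻¹) * (g * X * g⁻¹)⁻¹ * (g * Y * g⁻¹)⁻¹ = p := by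
      calc g * X * g⁻¹ * (g * Y * g⁻¹) * (g * X * g⁻¹)⁻¹ * (g * Y * g⁻¹)⁻¹
          = g * (X * Y * X⁻¹ * Y⁻¹) * g⁻¹ := by group
        _ = p := by rw [hval1, hcen p kp, mul_inv_cancel_right]
    rw [ex, ey] at hconj
    have hqA : q⁻¹ * A⁻¹ = A⁻¹ * q⁻¹ := by rw [← mul_inv_rev, ← mul_inv_rev, hAq]
    calc A * B * A⁻¹ * B⁻¹ = A * B * (A⁻¹ * q⁻¹) * (B * q⁻¹)⁻¹ := by group
      _ = A * (B * q⁻¹) * A⁻¹ * (B * q⁻¹)⁻¹ := by rw [← hqA]; group
      _ = α * A * (β * (B * q⁻¹)) * (α * A)⁻¹ * (β * (B * q⁻¹))⁻¹ := by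
        generalize B * q⁻¹ = T
        symm
        calc α * A * (β * T) * (α * A)⁻¹ * (β * T)⁻¹ = α * (A * β) * T * A⁻¹ * α⁻¹ * T⁻¹ * β⁻¹ := by group
          _ = α * β * ((A * T * A⁻¹) * α⁻¹) * T⁻¹ * β⁻¹ := by rw [hcen β hβ A]; group
          _ = (α * β * α⁻¹) * ((A * T * A⁻¹ * T⁻¹) * β⁻¹) := by rw [hcen _ (inv_mem hα) (A * T * A⁻¹)]; group
          _ = A * T * A⁻¹ * T⁻¹ := by
            rw [hcen β hβ α, mul_inv_cancel_right, hcen _ (inv_mem hβ), mul_inv_cancel_left]
      _ = p := hconj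
  have h4 : (A * B * A⁻¹ * B⁻¹) ^ 4 = p ^ 2 := by
    rw [hA, hB]
    refine pow_four hR p r₂ q (hcen p kp) (hcen r₂ k2) hqall (hcen c hck q) ?_ ?_ ?_ ?_ ?_ p3 two qq
    · decide
    · decide +kernel
    · rw [show Fi22.spiderW.map up = spiderW by decide, ← hr1, r1p]
    · rw [show Fi22.twoW.map up = twoW by decide, ← hr2]
    · rw [show Fi22.threeW.map up = coxW by decide, ← hq0]
  have hp1 : p = 1 := by
    rw [hval2, pow_succ, p3, one_mul] at h4
    exact (mul_eq_left (a := p)).1 (by rw [← pow_two]; exact h4.symm)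
  -- rescaled lifts
  set u := r₂ * (c ^ 31)⁻¹ with hu
  have ku : u ∈ σ.ker := mul_mem k2 (inv_mem (kc 31))
  have hu2 : u * u = c := by
    rw [hu, show r₂ * (c ^ 31)⁻¹ * (r₂ * (c ^ 31)⁻¹) = r₂ * ((c ^ 31)⁻¹ * r₂) * (c ^ 31)⁻¹ by group,
      ← hcen _ (inv_mem (kc 31)) r₂, show r₂ * (r₂ * (c ^ 31)⁻¹) * (c ^ 31)⁻¹ = (r₂ * r₂) * (c ^ (31 + 31))⁻¹ by
        group, two]
    group
  set t : ℕ → Γ := fun x => s x * u⁻¹ with ht
  have hword : ∀ W : List ℕ, (W.map t).prod = (W.map s).prod * (u ^ W.length)⁻¹ := by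
    intro W
    induction W with
    | nil => simp
    | cons y W ih =>
      rw [List.map_cons, List.prod_cons, ih, List.map_cons, List.prod_cons, List.length_cons, pow_succ, ht]
      show s y * u⁻¹ * ((W.map s).prod * (u ^ W.length)⁻¹) = s y * (W.map s).prod * (u ^ W.length * u)⁻¹
      rw [show s y * u⁻¹ * ((W.map s).prod * (u ^ W.length)⁻¹) =
        s y * (u⁻¹ * (W.map s).prod) * (u ^ W.length)⁻¹ by group, ← hcen _ (inv_mem ku) (W.map s).prod]
      group
  have tpow : ∀ (W : List ℕ) (n : ℕ), (W.map t).prod ^ n = (W.map s).prod ^ n * (u ^ (W.length * n))⁻¹ := by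
    intro W n
    rw [hword, (show Commute (W.map s).prod (u ^ W.length)⁻¹ from hcen _ (inv_mem (pow_mem ku _)) _).mul_pow,
      inv_pow, ← pow_mul]
  have hrel : ∀ r ∈ Spor.coxRelators Spor.Fi23.edges ∪ {r | r ∈ Spor.Fi23.extra},
      FreeGroup.lift (fun x => t (Fi23G.idx x)) r = 1 := by
    have hl : ∀ x, FreeGroup.lift (fun x => t (Fi23G.idx x)) (FreeGroup.of x) = t (Fi23G.idx x) :=
      fun x => FreeGroup.lift_apply_of ..
    obtain ⟨l1, l2⟩ := mk_rel (FreeGroup.lift fun x => t (Fi23G.idx x)) t hl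
    rintro r (⟨x, -, y, -, rfl⟩ | hr)
    · rw [map_pow, map_mul, hl, hl, show t (Fi23G.idx x) * t (Fi23G.idx y) = ([Fi23G.idx x, Fi23G.idx y].map t).prod by
        simp, tpow, show ([Fi23G.idx x, Fi23G.idx y].map s).prod = s (Fi23G.idx x) * s (Fi23G.idx y) by simp]
      show (s (Fi23G.idx x) * s (Fi23G.idx y)) ^ _ * (u ^ (2 * _))⁻¹ = 1
      rw [pow_mul, pow_two, hu2]
      have hK : ∀ x < 10, ∀ y < 10, (x = y ∧ Spor.coxLabel Spor.Fi23.edges (Fi23G.ofIdx x) (Fi23G.ofIdx y) = 1) ∨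
          (joined ed x y = true ∧ Spor.coxLabel Spor.Fi23.edges (Fi23G.ofIdx x) (Fi23G.ofIdx y) = 3) ∨
          (joined ed x y = false ∧ Spor.coxLabel Spor.Fi23.edges (Fi23G.ofIdx x) (Fi23G.ofIdx y) = 2) := by
        decide +kernel
      have hx : Fi23G.idx x < 10 := by cases x <;> decide
      have hy : Fi23G.idx y < 10 := by cases y <;> decide
      have hcases := hK _ hx _ hy
      rw [show Fi23G.ofIdx (Fi23G.idx x) = x from Fi23G.data.left x,
        show Fi23G.ofIdx (Fi23G.idx y) = y from Fi23G.data.left y] at hcases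
      generalize Fi23G.idx x = a at hx hcases ⊢
      generalize Fi23G.idx y = b at hy hcases ⊢
      rcases hcases with ⟨rfl, h⟩ | ⟨hj, h⟩ | ⟨hj, h⟩ <;> rw [h]
      · rw [pow_one, pow_one, hR.sq a hx, mul_inv_cancel]
      · rw [show (s a * s b) ^ 3 = (s a * s b * s a) * (s b * s a * s b) by simp [pow_succ, mul_assoc],
          ← hR.braid a hx b hy hj,
          show s a * s b * s a * (s a * s b * s a) = s a * s b * (s a * s a) * s b * s a by group, hR.sq a hx,
          show s a * s b * c * s b * s a = s a * (s b * c) * (s b * s a) by group, hcen c hck,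
          show s a * (c * s b) * (s b * s a) = (s a * c) * (s b * s b) * s a by group, hcen c hck, hR.sq b hy,
          show c * s a * c * s a = c * (s a * c) * s a by group, hcen c hck,
          show c * (c * s a) * s a = c * c * (s a * s a) by group, hR.sq a hx,
          show c * c * c = c ^ 3 by simp [pow_succ], mul_inv_cancel]
      · rw [show (s a * s b) ^ 2 = s a * (s b * s a) * s b by simp [pow_succ, mul_assoc],
          ← hR.comm a hx b hy hj,
          show s a * (s a * s b) * s b = (s a * s a) * (s b * s b) by group, hR.sq a hx, hR.sq b hy,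
          show c ^ 2 = c * c from pow_two c, mul_inv_cancel]
    · simp only [Spor.Fi23.extra, Set.mem_ofPred_eq, List.mem_cons, List.not_mem_nil, or_false] at hr
      rcases hr with rfl | rfl
      · rw [l1, tpow, ← hr1, r1p, hp1, mul_one, show spiderW.length * 10 = 2 * 45 from rfl, pow_mul, pow_two, hu2,
          mul_inv_cancel]
      · rw [l2, tpow, ← hr2, show twoW.length * 9 = 1 + 2 * 31 from rfl, pow_add, pow_mul, pow_two, hu2, pow_one, hu,
          inv_mul_cancel_right, mul_inv_cancel]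
  rw [eq_bot_iff]
  refine ker_le_of_section hc (perfect_of_stem hd hsur perfect) ⊥ bot_le
    ((QuotientGroup.mk' ⊥).comp (PresentedGroup.toGroup hrel)) ?_
  have : σ.comp (PresentedGroup.toGroup hrel) = MonoidHom.id _ := PresentedGroup.ext fun x => by
    rw [MonoidHom.comp_apply, PresentedGroup.toGroup.of, MonoidHom.id_apply, ← f_idx]
    show σ (s (Fi23G.idx x) * u⁻¹) = _
    rw [map_mul, map_inv, MonoidHom.mem_ker.1 ku, inv_one, mul_one, hs]
  exact fun g => DFunLike.congr_fun this g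

end Cfsg.Agent.Lib.FiMult.TwentyThree
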