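import Cfsg.Agent.Lib.FiMult.Moves

/-!
# Normalised lifts of the generators of a tree diagram into a central extension
-/

set_option autoImplicit false

namespace Cfsg.Agent.Lib.FiMult

variable {E G : Type*} [Group E] [Group G] {σ : E →* G}

/-- Braided lifts along a tree given leaf first by the list of pairs (parent, child). -/
theorem exists_tree_lifts (hσ : Function.Surjective σ) (hc : σ.ker ≤ Subgroup.center E) (f : ℕ → G)
    (hsq : ∀ x, f x * f x = 1) (root : ℕ) :
    ∀ T : List (ℕ × ℕ), (∀ p ∈ T, (f p.1 * f p.2) ^ 3 = 1) →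
      (T.map Prod.snd ++ [root]).Nodup → (∀ l₁ p l₂, T = l₁ ++ p :: l₂ → p.1 ∈ l₂.map Prod.snd ++ [root]) →
      ∃ (s : ℕ → E) (c : E), c ∈ σ.ker ∧ (∀ x, σ (s x) = f x) ∧
        (∀ x ∈ T.map Prod.snd ++ [root], s x * s x = c) ∧
        ∀ p ∈ T, s p.1 * s p.2 * s p.1 = s p.2 * s p.1 * s p.2
  | [], _, _, _ => by
    choose s hs using fun x => hσ (f x)
    refine ⟨s, s root * s root, ?_, hs, by simp, by simp⟩
    rw [MonoidHom.mem_ker, map_mul, hs, hsq]
  | (p, q) :: T, he, hn, hp => by
    rw [List.map_cons, List.cons_append, List.nodup_cons] at hn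
    obtain ⟨hq, hn⟩ := hn
    obtain ⟨s, c, hck, hs, hs2, hb⟩ := exists_tree_lifts hσ hc f hsq root T
      (fun r hr => he r (List.mem_cons_of_mem _ hr)) hn
      (fun l₁ r l₂ e => hp ((p, q) :: l₁) r l₂ (by rw [e]; rfl))
    have hpV : p ∈ T.map Prod.snd ++ [root] := hp [] (p, q) T rfl
    set u := s p * s q with hu
    set y := u * s p * u⁻¹ with hy
    have hne : ∀ x ∈ T.map Prod.snd ++ [root], x ≠ q := fun x hx e => hq (e ▸ hx)
    have hcen : ∀ z ∈ σ.ker, ∀ v : E, v * z = z * v := fun z hz => Subgroup.mem_center_iff.1 (hc hz)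
    have hσy : σ y = f q := by
      have hg := he (p, q) List.mem_cons_self
      rw [pow_succ, pow_two] at hg
      rw [hy, hu, map_mul, map_mul, map_inv, map_mul, hs, hs, mul_inv_eq_iff_eq_mul]
      calc f p * f q * f p = (f p * f q * f p) * (f q * f p * f q) * (f q * f p * f q)⁻¹ := by group
        _ = (f q * f p * f q)⁻¹ := by
          rw [show (f p * f q * f p) * (f q * f p * f q) = f p * f q * (f p * f q) * (f p * f q) by group, hg,
            one_mul]
        _ = f q * (f p * f q) := by
          rw [inv_eq_iff_mul_eq_one]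
          calc f q * f p * f q * (f q * (f p * f q)) = f q * f p * (f q * f q) * (f p * f q) := by group
            _ = f q * (f p * f p) * f q := by rw [hsq]; group
            _ = 1 := by rw [hsq, mul_one, hsq]
    have hyq : y * (s q)⁻¹ ∈ σ.ker := by
      rw [MonoidHom.mem_ker, map_mul, map_inv, hσy, hs, mul_inv_cancel]
    set a := y * (s q)⁻¹ with ha
    have hsqa : s q = a⁻¹ * y := by rw [ha]; group
    have hy2 : y = s p * y * s p * (s p * y)⁻¹ := by
      conv_lhs => rw [hy, hu, hsqa]
      have hca := hcen a⁻¹ (inv_mem hyq)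
      rw [show s p * (a⁻¹ * y) = a⁻¹ * (s p * y) by rw [← mul_assoc, hca, mul_assoc]]
      calc a⁻¹ * (s p * y) * s p * (a⁻¹ * (s p * y))⁻¹
          = a⁻¹ * (s p * y * s p * (s p * y)⁻¹) * a := by group
        _ = s p * y * s p * (s p * y)⁻¹ := by
          rw [← hca, mul_assoc _ a⁻¹ a, inv_mul_cancel, mul_one]
    refine ⟨Function.update s q y, c, hck, ?_, ?_, ?_⟩
    · intro x
      rcases eq_or_ne x q with rfl | hx
      · rw [Function.update_self, hσy]
      · rw [Function.update_of_ne hx, hs]
    · intro x hx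
      rw [List.map_cons, List.cons_append, List.mem_cons] at hx
      rcases hx with rfl | hx
      · rw [Function.update_self, hy, show u * s p * u⁻¹ * (u * s p * u⁻¹) = u * (s p * s p) * u⁻¹ by group,
          hs2 p hpV, hcen c hck, mul_inv_cancel_right]
      · rw [Function.update_of_ne (hne x hx), hs2 x hx]
    · intro r hr
      rcases List.mem_cons.1 hr with rfl | hr
      · simp only [Function.update_self, Function.update_of_ne (hne p hpV)]
        calc s p * y * s p = s p * y * s p * (s p * y)⁻¹ * (s p * y) := by group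
          _ = y * (s p * y) := by rw [← hy2]
          _ = y * s p * y := by group
      · obtain ⟨l₁, l₂, rfl⟩ := List.mem_iff_append.1 hr
        have h1 : r.1 ∈ l₂.map Prod.snd ++ [root] := hp ((p, q) :: l₁) r l₂ rfl
        have h1' : r.1 ∈ (l₁ ++ r :: l₂).map Prod.snd ++ [root] := by
          simp only [List.map_append, List.map_cons, List.mem_append, List.mem_cons] at h1 ⊢
          tauto
        have h2' : r.2 ∈ (l₁ ++ r :: l₂).map Prod.snd ++ [root] := by simp
        simp only [Function.update_of_ne (hne _ h1'), Function.update_of_ne (hne _ h2')]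
        exact hb r hr

/-- Along a joined pair the commutator of a lift with two lifts is the same. -/
theorem commutator_eq {x y z e e' : E} (hb : y * z * y = z * y * z) (he : ∀ u : E, u * e = e * u)
    (he' : ∀ u : E, u * e' = e' * u) (h : x * y * x⁻¹ = e * y) (h' : x * z * x⁻¹ = e' * z) : e' = e := by
  have hz : z = (y * z) * y * (y * z)⁻¹ := by rw [hb]; group
  have hu : x * (y * z) * x⁻¹ = (e * e') * (y * z) := by
    calc x * (y * z) * x⁻¹ = (x * y * x⁻¹) * (x * z * x⁻¹) := by group
      _ = e * (y * e') * z := by rw [h, h']; group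
      _ = (e * e') * (y * z) := by rw [he']; group
  have h2 : x * z * x⁻¹ = e * z := by
    conv_lhs => rw [hz]
    calc x * ((y * z) * y * (y * z)⁻¹) * x⁻¹
        = (x * (y * z) * x⁻¹) * (x * y * x⁻¹) * (x * (y * z) * x⁻¹)⁻¹ := by group
      _ = (e * e') * ((y * z) * e) * y * (y * z)⁻¹ * (e * e')⁻¹ := by rw [hu, h]; group
      _ = (e * e') * e * ((y * z) * y * (y * z)⁻¹) * (e * e')⁻¹ := by rw [he]; group
      _ = e * z := by
        rw [← hz]
        have hee : ∀ u : E, u * (e * e') = (e * e') * u := fun u => by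
          rw [← mul_assoc, he, mul_assoc, he', mul_assoc]
        rw [show e * e' * e * z = e * e' * (e * z) by group, ← hee (e * z), mul_inv_cancel_right]
  rw [h'] at h2
  exact mul_right_cancel h2

end Cfsg.Agent.Lib.FiMult
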