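import Mathlib

/-!
# Words in lifts of generators of a simply laced diagram

Lifts that satisfy the braid and commuting relations exactly and have a common central square `c`: a rewriting
certificate in the diagram group evaluates a word as a power of `c`.
-/

set_option autoImplicit false

namespace Cfsg.Agent.Lib.FiMult

/-- The joined pairs of a list of edges. -/
def joined (ed : List (ℕ × ℕ)) (x y : ℕ) : Bool := ed.contains (x, y) || ed.contains (y, x)

/-- Lifts with exact relations. -/
structure Rels {E : Type*} [Group E] (K : ℕ) (ed : List (ℕ × ℕ)) (s : ℕ → E) (c : E) : Prop where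
  central : ∀ u : E, u * c = c * u
  sq : ∀ x < K, s x * s x = c
  braid : ∀ x < K, ∀ y < K, joined ed x y = true → s x * s y * s x = s y * s x * s y
  comm : ∀ x < K, ∀ y < K, joined ed x y = false → s x * s y = s y * s x

/-- One move: at a position, either cancel a square, or braid, or swap. -/
def step (K : ℕ) (ed : List (ℕ × ℕ)) : ℕ → List ℕ → Option (List ℕ × ℕ)
  | 0, a :: b :: w =>
    if a < K ∧ b < K then
      if a = b then some (w, 1)
      else if joined ed a b = true then
        match w with
        | c :: w' => if c = a then some (b :: a :: b :: w', 0) else none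
        | [] => none
      else some (b :: a :: w, 0)
    else none
  | i + 1, a :: w =>
    match step K ed i w with
    | some (w', k) => some (a :: w', k)
    | none => none
  | _, _ => none

/-- A sequence of moves. -/
def moves (K : ℕ) (ed : List (ℕ × ℕ)) : List ℕ → List ℕ → ℕ → Option (List ℕ × ℕ)
  | [], w, n => some (w, n)
  | i :: is, w, n =>
    match step K ed i w with
    | some (w', k) => moves K ed is w' (n + k)
    | none => none

variable {E : Type*} [Group E] {K : ℕ} {ed : List (ℕ × ℕ)} {s : ℕ → E} {c : E}

theorem Rels.step_spec (h : Rels K ed s c) :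
    ∀ (i : ℕ) (w w' : List ℕ) (k : ℕ), step K ed i w = some (w', k) →
      (w.map s).prod = c ^ k * (w'.map s).prod
  | 0, [], _, _, e => by simp [step] at e
  | 0, [_], _, _, e => by simp [step] at e
  | 0, a :: b :: w, w', k, e => by
    simp only [step] at e
    by_cases hK : a < K ∧ b < K
    swap
    · simp [hK] at e
    rw [if_pos hK] at e
    by_cases hab : a = b
    · rw [if_pos hab] at e
      simp only [Option.some.injEq, Prod.mk.injEq] at e
      obtain ⟨rfl, rfl⟩ := e
      subst hab
      simp only [List.map_cons, List.prod_cons, pow_one]
      rw [← mul_assoc, h.sq a hK.1]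
    · rw [if_neg hab] at e
      by_cases hj : joined ed a b = true
      · rw [if_pos hj] at e
        rcases w with _ | ⟨z, w⟩
        · simp at e
        by_cases hz : z = a
        · simp only [hz, if_true, Option.some.injEq, Prod.mk.injEq] at e
          obtain ⟨rfl, rfl⟩ := e
          subst hz
          simp only [List.map_cons, List.prod_cons, pow_zero, one_mul, ← mul_assoc]
          rw [h.braid z hK.1 b hK.2 hj]
        · simp [hz] at e
      · rw [if_neg hj] at e
        simp only [Option.some.injEq, Prod.mk.injEq] at e
        obtain ⟨rfl, rfl⟩ := e
        simp only [List.map_cons, List.prod_cons, pow_zero, one_mul, ← mul_assoc]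
        rw [h.comm a hK.1 b hK.2 (by simpa using hj)]
  | i + 1, [], _, _, e => by simp [step] at e
  | i + 1, a :: w, w', k, e => by
    simp only [step] at e
    rcases hs : step K ed i w with _ | ⟨u, l⟩
    · simp [hs] at e
    · simp only [hs, Option.some.injEq, Prod.mk.injEq] at e
      obtain ⟨rfl, rfl⟩ := e
      rw [List.map_cons, List.prod_cons, h.step_spec i w u l hs, List.map_cons, List.prod_cons, ← mul_assoc,
        ← mul_assoc, (Commute.pow_right (show Commute (s a) c from h.central _) l).eq]

theorem Rels.moves_spec (h : Rels K ed s c) :
    ∀ (is w w' : List ℕ) (n m : ℕ), moves K ed is w n = some (w', m) →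
      c ^ n * (w.map s).prod = c ^ m * (w'.map s).prod
  | [], w, w', n, m, e => by
    simp only [moves, Option.some.injEq, Prod.mk.injEq] at e
    obtain ⟨rfl, rfl⟩ := e
    rfl
  | i :: is, w, w', n, m, e => by
    simp only [moves] at e
    rcases hs : step K ed i w with _ | ⟨u, l⟩
    · simp [hs] at e
    · simp only [hs] at e
      rw [h.step_spec i w u l hs, ← mul_assoc, ← pow_add]
      exact h.moves_spec is u w' (n + l) m e

/-- A word that the moves erase is a power of `c`. -/
theorem Rels.eval (h : Rels K ed s c) {is w : List ℕ} {m : ℕ} (e : moves K ed is w 0 = some ([], m)) :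
    (w.map s).prod = c ^ m := by
  simpa using h.moves_spec is w [] 0 m e

/-- A replicated word. -/
theorem prod_replicate (s : ℕ → E) (w : List ℕ) :
    ∀ n, ((List.replicate n w).flatten.map s).prod = (w.map s).prod ^ n
  | 0 => by simp
  | n + 1 => by
    rw [List.replicate_succ, List.flatten_cons, List.map_append, List.prod_append, prod_replicate s w n, pow_succ']

end Cfsg.Agent.Lib.FiMult
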