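import Cfsg.Agent.Lib.FiMult.Fi22Upper
import Cfsg.Agent.Lib.FiMult.ThreeData

/-!
# A threefold stem extension of the presented Fi22

Fifty-four dimensional binary matrices (twenty-seven dimensional over the field with four elements) that satisfy
the relators up to a central scalar of order three.
-/

set_option autoImplicit false
set_option maxRecDepth 100000
set_option maxHeartbeats 1000000

namespace Cfsg.Agent.Lib.FiMult.Three

open Cfsg Cfsg.Agent.Lib.FiMult Cfsg.Agent.InvChar.Coset
open scoped commutatorElement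

local notation "M54" => Matrix (Fin 54) (Fin 54) (ZMod 2)
local notation "GL54" => Matrix.GeneralLinearGroup (Fin 54) (ZMod 2)

/-- A bit as a scalar. -/
def bit (b : Bool) : ZMod 2 := if b then 1 else 0

/-- The matrix of a list of rows. -/
def mat (A : List ℕ) : M54 := Matrix.of fun i j => bit ((A.getD i.1 0).testBit j.1)

/-- A combination of rows. -/
def mulRow (r : ℕ) : List ℕ → ℕ → ℕ
  | [], _ => 0
  | b :: B, k => if r.testBit k then Nat.xor b (mulRow r B (k + 1)) else mulRow r B (k + 1)

/-- A product by rows. -/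
def mul (A B : List ℕ) : List ℕ := A.map fun r => mulRow r B 0

theorem bit_xor (a b : Bool) : bit (a ^^ b) = bit a + bit b := by
  cases a <;> cases b <;> decide

theorem mulRow_spec (r : ℕ) :
    ∀ (B : List ℕ) (k j : ℕ), bit ((mulRow r B k).testBit j) =
      ∑ i : Fin B.length, bit (r.testBit (k + i.1)) * bit ((B.getD i.1 0).testBit j)
  | [], k, j => by
    rw [show mulRow r [] k = 0 from rfl, Nat.zero_testBit]
    exact (Finset.sum_eq_zero fun i _ => i.elim0).symm
  | b :: B, k, j => by
    have h := mulRow_spec r B (k + 1) j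
    rw [show (b :: B).length = B.length + 1 from rfl, Fin.sum_univ_succ]
    simp only [Fin.val_zero, Fin.val_succ, List.getD_cons_zero, List.getD_cons_succ, Nat.add_zero]
    rw [mulRow]
    have e : ∀ i : ℕ, k + (i + 1) = k + 1 + i := fun i => by omega
    rw [Finset.sum_congr rfl (fun i _ => by rw [e i.1]), ← h]
    by_cases hb : r.testBit k = true
    · rw [if_pos hb, show Nat.xor b (mulRow r B (k + 1)) = b ^^^ mulRow r B (k + 1) from rfl, Nat.testBit_xor,
        bit_xor, hb, show bit true = 1 from rfl, one_mul]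
    · rw [if_neg hb, Bool.not_eq_true] at *
      rw [hb, show bit false = 0 from rfl, zero_mul, zero_add]

/-- An entry. -/
theorem mat_apply (A : List ℕ) (i j : Fin 54) : mat A i j = bit ((A.getD i.1 0).testBit j.1) := rfl

theorem getD_mul {A : List ℕ} (B : List ℕ) {i : ℕ} (h : i < A.length) :
    (mul A B).getD i 0 = mulRow (A.getD i 0) B 0 := by
  rw [mul, List.getD_eq_getElem?_getD, List.getD_eq_getElem?_getD, List.getElem?_map, List.getElem?_eq_getElem h]
  rfl

theorem mat_mul {A B : List ℕ} (hA : A.length = 54) (hB : B.length = 54) : mat A * mat B = mat (mul A B) := by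
  ext i j
  rw [Matrix.mul_apply, mat_apply, getD_mul B (hA.symm ▸ i.2), mulRow_spec]
  simp only [mat_apply, Nat.zero_add]
  exact (Fintype.sum_equiv (finCongr hB) _ _ fun k => rfl).symm

/-- The identity, by rows. -/
def oneRows : List ℕ := (List.range 54).map fun i => 2 ^ i

theorem mat_one : mat oneRows = 1 := by
  have h : ∀ i j : Fin 54, ((oneRows.getD i.1 0).testBit j.1) = decide (i = j) := by decide +kernel
  ext i j
  rw [mat, Matrix.of_apply, h, Matrix.one_apply]
  by_cases e : i = j <;> simp [bit, e]

theorem gens_ok : ∀ x : Fin 9, (genRows.getD x.1 []).length = 54 ∧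
    mul (genRows.getD x.1 []) (genRows.getD x.1 []) = oneRows := by decide +kernel

/-- The lift of a generator. -/
def lift (x : Fin 9) : GL54 :=
  ⟨mat (genRows.getD x.1 []), mat (genRows.getD x.1 []),
    by rw [mat_mul (gens_ok x).1 (gens_ok x).1, (gens_ok x).2, mat_one],
    by rw [mat_mul (gens_ok x).1 (gens_ok x).1, (gens_ok x).2, mat_one]⟩

/-- The lift of a number. -/
def liftN (x : ℕ) : GL54 := lift ⟨x % 9, Nat.mod_lt _ (by decide)⟩

theorem liftN_val (x : ℕ) : (liftN x).1 = mat (genRows.getD (x % 9) []) := rfl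

theorem liftN_mod (x : ℕ) : liftN (x % 9) = liftN x :=
  congrArg lift (Fin.ext (Nat.mod_mod x 9))

theorem genRows_length (x : ℕ) : (genRows.getD (x % 9) []).length = 54 :=
  (gens_ok ⟨x % 9, Nat.mod_lt _ (by decide)⟩).1

/-- The rows of a word. -/
def wordRows : List ℕ → List ℕ
  | [] => oneRows
  | y :: w => mul (genRows.getD (y % 9) []) (wordRows w)

theorem wordRows_length : ∀ w : List ℕ, (wordRows w).length = 54
  | [] => by simp [wordRows, oneRows]
  | y :: w => by rw [wordRows, mul, List.length_map, genRows_length]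

attribute [local irreducible] mat

theorem wordRows_spec : ∀ w : List ℕ, ((w.map liftN).prod : GL54).1 = mat (wordRows w)
  | [] => by rw [wordRows, mat_one, List.map_nil, List.prod_nil, Units.val_one]
  | y :: w => by
    rw [List.map_cons, List.prod_cons, Units.val_mul, wordRows_spec w, wordRows, liftN_val,
      mat_mul (genRows_length y) (wordRows_length w)]

attribute [local irreducible] liftN

theorem word_eq {u v : List ℕ} (h : wordRows u = wordRows v) : (u.map liftN).prod = (v.map liftN).prod :=
  Units.ext (by rw [wordRows_spec, wordRows_spec, h])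

theorem spider_rows : wordRows (Fi22.rel Fi22.spiderW 10) = omegaRows := by decide +kernel

/-- The central scalar. -/
def omega : GL54 := ((Fi22.rel Fi22.spiderW 10).map liftN).prod

theorem omega_central (x : Fin 9) : liftN x.1 * omega = omega * liftN x.1 := by
  refine Units.ext ?_
  have h : ∀ x : Fin 9, mul (genRows.getD x.1 []) omegaRows = mul omegaRows (genRows.getD x.1 []) := by
    decide +kernel
  have hl : omegaRows.length = 54 := spider_rows ▸ wordRows_length _
  rw [Units.val_mul, Units.val_mul, omega, wordRows_spec, spider_rows, liftN_val, Nat.mod_eq_of_lt x.2,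
    mat_mul (gens_ok x).1 hl, mat_mul hl (gens_ok x).1, h]


/-- The group of the lifts. -/
noncomputable abbrev Gam : Type := ↥(Subgroup.closure (Set.range fun x : Fin 9 => liftN x.1))

/-- A lift in the group. -/
noncomputable def t (x : ℕ) : Gam :=
  ⟨liftN x, Subgroup.subset_closure ⟨⟨x % 9, Nat.mod_lt _ (by decide)⟩, liftN_mod x⟩⟩

theorem coe_t (x : ℕ) : (t x : GL54) = liftN x := rfl

theorem coe_word (w : List ℕ) : (((w.map t).prod : Gam) : GL54) = (w.map liftN).prod := by
  induction w with
  | nil => rfl
  | cons y w ih => rw [List.map_cons, List.prod_cons, Subgroup.coe_mul, ih, List.map_cons, List.prod_cons, coe_t]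

theorem t_top : Subgroup.closure (t '' {x | x < 9}) = (⊤ : Subgroup Gam) := by
  rw [eq_top_iff, ← Subgroup.closure_closure_coe_preimage]
  refine Subgroup.closure_mono fun u hu => ?_
  obtain ⟨x, hx⟩ := hu
  exact ⟨x.1, x.2, Subtype.ext ((coe_t x.1).trans hx)⟩

attribute [local irreducible] t

/-- The central element. -/
noncomputable def z : Gam := ((Fi22.rel Fi22.spiderW 10).map t).prod

theorem coe_z : (z : GL54) = omega := by
  rw [z, omega]
  exact coe_word _

attribute [local irreducible] z

theorem z_central : z ∈ Subgroup.center Gam := by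
  have h : Subgroup.closure (t '' {x | x < 9}) ≤ Subgroup.centralizer {z} := by
    rw [Subgroup.closure_le]
    rintro _ ⟨x, hx, rfl⟩
    rw [SetLike.mem_coe, Subgroup.mem_centralizer_iff]
    rintro _ rfl
    exact Subtype.ext (by rw [Subgroup.coe_mul, Subgroup.coe_mul, coe_z, coe_t, omega_central ⟨x, hx⟩])
  rw [t_top] at h
  exact Subgroup.mem_center_iff.2 fun u => (Subgroup.mem_centralizer_iff.1 (h (Subgroup.mem_top u)) z rfl).symm

instance : (Subgroup.zpowers z).Normal := ⟨fun n hn g => by
  have : n ∈ Subgroup.center Gam := Subgroup.zpowers_le.2 z_central hn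
  rw [Subgroup.mem_center_iff.1 this g, mul_inv_cancel_right]
  exact hn⟩

theorem z_order : orderOf z = 3 := by
  have h3 : z ^ 3 = 1 := by
    rw [z, ← prod_replicate]
    exact Subtype.ext (by rw [coe_word]; exact word_eq (v := []) (by decide +kernel))
  have h1 : z ≠ 1 := fun e => by
    have h : (omega : GL54).1 = (1 : GL54).1 := by rw [← coe_z, e, Subgroup.coe_one]
    rw [omega, wordRows_spec, spider_rows, Units.val_one, ← mat_one] at h
    have h2 := congrFun (congrFun h 0) 0
    rw [mat_apply, mat_apply] at h2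
    revert h2
    decide +kernel
  haveI : Fact (Nat.Prime 3) := ⟨Nat.prime_three⟩
  exact orderOf_eq_prime h3 h1

/-- The projection. -/
noncomputable def mk : Gam →* Gam ⧸ Subgroup.zpowers z := QuotientGroup.mk' _

/-- The check of a relator: a power of the scalar. -/
def relOK (w : List ℕ) : Bool :=
  (wordRows w == oneRows) || (wordRows w == omegaRows)

theorem rel_one {w : List ℕ} (h : relOK w = true) : mk (w.map t).prod = 1 := by
  refine (QuotientGroup.eq_one_iff _).2 ?_
  simp only [relOK, Bool.or_eq_true, beq_iff_eq] at h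
  rcases h with h | h
  · rw [show (w.map t).prod = 1 from Subtype.ext (by
      rw [coe_word]; exact word_eq (v := []) (by rw [h]; rfl))]
    exact one_mem _
  · rw [show (w.map t).prod = z from Subtype.ext (by
      rw [coe_word, coe_z, omega]; exact word_eq (h.trans spider_rows.symm))]
    exact Subgroup.mem_zpowers z

theorem pairs_ok : ∀ x < 9, ∀ y < 9, relOK (List.replicate
    (Spor.coxLabel Spor.Fi22.edges (Fi22B.ofIdx x) (Fi22B.ofIdx y)) [x, y]).flatten = true := by decide +kernel

theorem extra_ok : relOK (Fi22.rel Fi22.spiderW 10) = true ∧ relOK (Fi22.rel Fi22.twoW 9) = true ∧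
    relOK (Fi22.rel Fi22.threeW 9) = true := by decide +kernel

theorem rels_hold : ∀ r ∈ Spor.coxRelators Spor.Fi22.edges ∪ {r | r ∈ Spor.Fi22.extra},
    FreeGroup.lift (fun x => mk (t (Fi22B.idx x))) r = 1 := by
  have hl : ∀ x, FreeGroup.lift (fun x => mk (t (Fi22B.idx x))) (FreeGroup.of x) = (mk ∘ t) (Fi22B.idx x) :=
    fun x => FreeGroup.lift_apply_of ..
  obtain ⟨l1, l2, l3⟩ := Fi22.mk_rel (FreeGroup.lift fun x => mk (t (Fi22B.idx x))) (mk ∘ t) hl
  have hmt : ∀ W : List ℕ, (W.map (mk ∘ t)).prod = mk (W.map t).prod := fun W => by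
    rw [map_list_prod, List.map_map]
  obtain ⟨e1, e2, e3⟩ := extra_ok
  rintro r (⟨x, -, y, -, rfl⟩ | hr)
  · have h := rel_one (pairs_ok (Fi22B.idx x) (Fi22B.data.lt x) (Fi22B.idx y) (Fi22B.data.lt y))
    rw [show Fi22B.ofIdx (Fi22B.idx x) = x from Fi22B.data.left x,
      show Fi22B.ofIdx (Fi22B.idx y) = y from Fi22B.data.left y, prod_replicate, map_pow] at h
    rw [map_pow, map_mul, hl, hl]
    simpa using h
  · simp only [Spor.Fi22.extra, Set.mem_ofPred_eq, List.mem_cons, List.not_mem_nil, or_false] at hr
    rcases hr with rfl | rfl | rfl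
    · rw [l1, hmt, ← map_pow, ← prod_replicate]; exact rel_one e1
    · rw [l2, hmt, ← map_pow, ← prod_replicate]; exact rel_one e2
    · rw [l3, hmt, ← map_pow, ← prod_replicate]; exact rel_one e3

/-- The map onto the quotient. -/
noncomputable def ψ : Spor.Fi22 →* Gam ⧸ Subgroup.zpowers z := PresentedGroup.toGroup rels_hold

theorem ψ_gen {x : ℕ} (hx : x < 9) : ψ (Fi22.f x) = mk (t x) := by
  have e : ∀ z < 9, Fi22B.idx (Fi22B.ofIdx z) = z := by decide
  rw [← e x hx, Fi22.f_idx, ψ, PresentedGroup.toGroup.of, e x hx]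

theorem ψ_surjective : Function.Surjective ψ := by
  rw [← MonoidHom.range_eq_top, eq_top_iff, ← Subgroup.map_top_of_surjective mk (QuotientGroup.mk'_surjective _),
    ← t_top, MonoidHom.map_closure, Subgroup.closure_le]
  rintro _ ⟨_, ⟨x, hx, rfl⟩, rfl⟩
  exact ⟨_, ψ_gen hx⟩

theorem ψ_injective : Function.Injective ψ := by
  haveI := Fi22B.simple_and_card.1
  rcases IsSimpleGroup.eq_bot_or_eq_top_of_normal ψ.ker inferInstance with h | h
  · exact (MonoidHom.ker_eq_bot_iff _).1 h
  exfalso
  have h1 : ψ (Fi22.f 0) = 1 := MonoidHom.mem_ker.1 (h ▸ Subgroup.mem_top _)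
  rw [ψ_gen (by norm_num)] at h1
  obtain ⟨k, hk⟩ := Subgroup.mem_zpowers_iff.1 ((QuotientGroup.eq_one_iff _).1 h1)
  have ht : t 0 ^ 3 = 1 := by
    rw [← hk, ← zpow_natCast, ← zpow_mul, mul_comm, zpow_mul, zpow_natCast, ← z_order, pow_orderOf_eq_one,
      one_zpow]
  have h2 : ([0, 0, 0].map liftN).prod = (([] : List ℕ).map liftN).prod := by
    rw [← coe_word, ← coe_word]
    simpa only [pow_succ, pow_zero, one_mul, mul_one, mul_assoc, List.map_cons, List.map_nil, List.prod_cons,
      List.prod_nil, Subgroup.coe_mul, Subgroup.coe_one] using congrArg Subtype.val ht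
  have h3 := congrArg Units.val h2
  rw [wordRows_spec, wordRows_spec, show wordRows [] = oneRows from rfl] at h3
  have h4 : ∀ i j : Fin 54, bit (((wordRows [0, 0, 0]).getD i.1 0).testBit j.1) =
      bit ((oneRows.getD i.1 0).testBit j.1) := fun i j => by
    rw [← mat_apply, ← mat_apply, h3]
  revert h4
  decide +kernel

/-- The threefold stem extension. -/
theorem exists_cover : ∃ (Γ : Type) (_ : Group Γ) (_ : Finite Γ) (σ : Γ →* Spor.Fi22),
    Cfsg.IsStemExtension σ ∧ Nat.card σ.ker = 3 := by
  let e : Spor.Fi22 ≃* Gam ⧸ Subgroup.zpowers z := MulEquiv.ofBijective ψ ⟨ψ_injective, ψ_surjective⟩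
  refine ⟨Gam, inferInstance, inferInstance, e.symm.toMonoidHom.comp mk, ⟨?_, ?_, ?_⟩, ?_⟩
  · exact e.symm.surjective.comp (QuotientGroup.mk'_surjective _)
  all_goals
    have hker : (e.symm.toMonoidHom.comp mk).ker = Subgroup.zpowers z := by
      rw [← MonoidHom.comap_ker, (MonoidHom.ker_eq_bot_iff _).2 e.symm.injective, MonoidHom.comap_bot]
      exact QuotientGroup.ker_mk' _
    rw [hker]
  · exact Subgroup.zpowers_le.2 z_central
  · rw [Subgroup.zpowers_le, ← Abelianization.ker_of, MonoidHom.mem_ker, z, map_list_prod, List.map_map]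
    have hb : ∀ x < 9, ∀ y < 9, joined Fi22.ed x y = true → wordRows [x, y, x] = wordRows [y, x, y] := by
      decide +kernel
    have hstep : ∀ p ∈ Fi22.ed, (Abelianization.of (t p.1) : Abelianization Gam) = Abelianization.of (t p.2) := by
      intro p hp
      have hm : ∀ p ∈ Fi22.ed, p.1 < 9 ∧ p.2 < 9 ∧ joined Fi22.ed p.1 p.2 = true := by decide +kernel
      obtain ⟨h1, h2, h3⟩ := hm p hp
      have h : t p.1 * t p.2 * t p.1 = t p.2 * t p.1 * t p.2 := Subtype.ext (by
        simpa only [List.map_cons, List.map_nil, List.prod_cons, List.prod_nil, mul_one, mul_assoc,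
          Subgroup.coe_mul, coe_t] using word_eq (hb _ h1 _ h2 h3))
      have h' := congrArg (Abelianization.of (G := Gam)) h
      simp only [map_mul] at h'
      rw [mul_comm (Abelianization.of (t p.1) * _) , mul_comm (Abelianization.of (t p.2) * _),
        mul_comm (Abelianization.of (t p.2)) (Abelianization.of (t p.1))] at h'
      exact mul_right_cancel h'
    simp only [Fi22.ed, List.forall_mem_cons, List.not_mem_nil, false_implies, implies_true, and_true] at hstep
    have hsq : Abelianization.of (t 0) * Abelianization.of (t 0) = 1 := by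
      rw [← map_mul, ← map_one (Abelianization.of (G := Gam))]
      refine congrArg _ ?_
      exact Subtype.ext (by
        simpa only [List.map_cons, List.map_nil, List.prod_cons, List.prod_nil, mul_one,
          Subgroup.coe_mul, Subgroup.coe_one, coe_t] using word_eq (u := [0, 0]) (v := []) (by decide +kernel))
    obtain ⟨a1, a2, a3, a4, a5, a6, a7, a8⟩ := hstep
    rw [Fi22.rel, prod_replicate]
    simp only [Fi22.spiderW, List.map_cons, List.map_nil, List.prod_cons, List.prod_nil, Function.comp_apply,
      a1.symm, a2.symm, a3.symm, a4.symm, a5.symm, a6.symm, a7.symm, a8.symm]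
    rw [show (10 : ℕ) = 2 * 5 from rfl, pow_mul, pow_two]
    have hc : ∀ a b : Abelianization Gam, a * a = 1 → b * b = 1 → (a * b) * (a * b) = 1 := fun a b ha hb => by
      rw [mul_mul_mul_comm, ha, hb, one_mul]
    rw [hc _ _ hsq (hc _ _ hsq (hc _ _ hsq (hc _ _ hsq (hc _ _ hsq (hc _ _ hsq (hc _ _ hsq (hc _ _ hsq
      (hc _ _ hsq (mul_one 1))))))))), one_pow]
  · rw [Nat.card_zpowers, z_order]

end Cfsg.Agent.Lib.FiMult.Three
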